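import Cfsg.Prelude.Def_CaseTheorems
import Cfsg.Agent.Lib.SolvableSignalizer.Connected
import Cfsg.Agent.Lib.Components.Balance
import Cfsg.Agent.Lib.Cores.Nilpotent
import Cfsg.Agent.Lib.Involutions.TwoGroups
import Cfsg.Agent.Lib.Involutions.StronglyEmbedded
import Cfsg.Agent.Lib.Involutions.ThompsonTransfer
import Cfsg.Agent.Lib.Transfer.NormalPComplement
import Cfsg.Agent.Lib.PLocal.Cores

/-!
Groups with solvable involution centralisers: general facts used in the reduction of groups with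
`C(Ω₁Z(S)) ≤ N(S)` to characteristic two type.
-/

set_option autoImplicit false
set_option linter.style.haveILetI false
set_option linter.unusedSectionVars false

namespace Cfsg.Agent.GenA.ZC

open Subgroup
open Cfsg.Agent.Components
open Cfsg.Agent.SolvableSignalizer

variable {G : Type*} [Group G] [Finite G]

local instance : Fact (Nat.Prime 2) := ⟨Nat.prime_two⟩

/-- `O(C(t))`. -/
abbrev θ (t : G) : Subgroup G := Cfsg.centralizerPPrimeCore 2 t

/-- An elementary abelian subgroup of order at least eight of `S`. -/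
def Big (S A : Subgroup G) : Prop := A ≤ S ∧ Cfsg.IsElementaryAbelian 2 A ∧ 8 ≤ Nat.card A

/-- `t` lies in an elementary abelian subgroup of order at least eight of `S`. -/
def HasBig (S : Subgroup G) (t : G) : Prop := ∃ A, Big S A ∧ t ∈ A

/-- `T` is maximal among the 2-subgroups of `K`. -/
def MaxTwo (K T : Subgroup G) : Prop :=
  ∀ P : Subgroup G, IsPGroup 2 P → P ≤ K → T ≤ P → P ≤ T

lemma isPGroup_zpowers {t : G} (ht : orderOf t = 2) : IsPGroup 2 (zpowers t) :=
  IsPGroup.of_card (n := 1) (by rw [Nat.card_zpowers, ht, pow_one])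

lemma mem_cent {t x : G} : x ∈ centralizer ({t} : Set G) ↔ x * t = t * x :=
  mem_centralizer_singleton_iff

lemma sq_one_order {x : G} (h : x * x = 1) (h1 : x ≠ 1) : orderOf x = 2 :=
  Involutions.Basic.orderOf_two_iff.mpr ⟨h, h1⟩

/-- The map `θ` is balanced. -/
theorem balanced (hC : ∀ t : G, orderOf t = 2 → Group.IsSolvable ↥(centralizer ({t} : Set G))) :
    Balanced 2 (θ (G := G)) where
  le a ha := by
    haveI := hC a ha.1
    refine ⟨Balance.centralizerPPrimeCore_le_centralizer 2 a, fun h => ?_, ?_⟩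
    · have h1 := (Balance.centralizerPPrimeCore_coprime 2 a).coprime_dvd_left h
      exact absurd h1 (by decide)
    · exact Group.isSolvable_of_isSolvable_injective
        (Subgroup.inclusion_injective (Balance.centralizerPPrimeCore_le_centralizer 2 a))
  conj a g _ := centralizerPPrimeCore_conj 2 a g
  bal a b ha hb hab := by
    haveI := hC b hb.1
    exact Balance.centralizerPPrimeCore_inf_le (isPGroup_zpowers ha.1) hab
      Balance.pLayer_eq_bot_of_isSolvable

/-! ### Central involutions -/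

/-- A nontrivial normal subgroup of a 2-group meets the centre in an involution. -/
lemma exists_central {X : Type*} [Group X] [Finite X] {S N : Subgroup X} (hS : IsPGroup 2 S)
    (hN : S ≤ normalizer (N : Set X)) (hne : S ⊓ N ≠ ⊥) :
    ∃ z ∈ S, z ∈ N ∧ orderOf z = 2 ∧ ∀ s ∈ S, Commute z s := by
  haveI := hS.isNilpotent
  set N' := N.subgroupOf S
  haveI : N'.Normal := normal_subgroupOf_of_le_normalizer hN
  have hne' : N' ≠ ⊥ := fun h => hne (by
    rw [inf_comm, ← Subgroup.subgroupOf_map_subtype, show N.subgroupOf S = ⊥ from h, Subgroup.map_bot])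
  set Z := N' ⊓ center ↥S
  have hZ : Z ≠ ⊥ := Cfsg.Agent.Cores.inf_center_ne_bot hne'
  obtain ⟨k, hk⟩ := (hS.to_subgroup Z).exists_card_eq
  have hk0 : k ≠ 0 := fun h => hZ (Z.eq_bot_of_card_eq (by rw [hk, h, pow_zero]))
  obtain ⟨z, hz⟩ := exists_prime_orderOf_dvd_card' (G := Z) 2 (hk ▸ dvd_pow_self 2 hk0)
  refine ⟨((z : S) : X), (z : S).2, z.2.1, by rw [orderOf_coe, orderOf_coe, hz], fun s hs => ?_⟩
  exact (congrArg Subtype.val (mem_center_iff.mp z.2.2 ⟨s, hs⟩)).symm

/-! ### `Ω₁(Z(Q))` -/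

theorem mem_omega_center {X : Type*} [Group X] (Q : Subgroup X) {x : X} :
    x ∈ Cfsg.omegaOne 2 (Q ⊓ centralizer (Q : Set X)) ↔
      x ∈ Q ∧ (∀ q ∈ Q, q * x = x * q) ∧ x * x = 1 := by
  constructor
  · intro h
    induction h using Subgroup.closure_induction with
    | mem y hy => exact ⟨hy.1.1, fun q hq => mem_centralizer_iff.mp hy.1.2 q hq, by rw [← pow_two]; exact hy.2⟩
    | one => exact ⟨one_mem _, fun q _ => by rw [mul_one, one_mul], one_mul 1⟩
    | mul y z _ _ ihy ihz =>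
      refine ⟨mul_mem ihy.1 ihz.1, fun q hq => ?_, ?_⟩
      · rw [← mul_assoc, ihy.2.1 q hq, mul_assoc, ihz.2.1 q hq, ← mul_assoc]
      · rw [mul_assoc, ← mul_assoc z, ihy.2.1 z ihz.1, mul_assoc y z z, ihz.2.2, mul_one, ihy.2.2]
    | inv y _ ih =>
      refine ⟨inv_mem ih.1, fun q hq => ?_, by rw [← mul_inv_rev, ih.2.2, inv_one]⟩
      exact ((show Commute q y from ih.2.1 q hq).inv_right).eq
  · rintro ⟨h1, h2, h3⟩
    exact subset_closure ⟨⟨h1, mem_centralizer_iff.mpr h2⟩, by rw [pow_two, h3]⟩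

theorem omega_center_elementary {X : Type*} [Group X] (Q : Subgroup X) :
    Cfsg.IsElementaryAbelian 2 (Cfsg.omegaOne 2 (Q ⊓ centralizer (Q : Set X))) := by
  refine ⟨⟨⟨fun a b => Subtype.ext (((mem_omega_center Q).mp b.2).2.1 a ((mem_omega_center Q).mp a.2).1)⟩⟩,
    fun a ha => by rw [pow_two]; exact ((mem_omega_center Q).mp ha).2.2⟩

theorem omega_center_conj {X : Type*} [Group X] {Q : Subgroup X} {n x : X}
    (hn : n ∈ normalizer (Q : Set X)) (hx : x ∈ Cfsg.omegaOne 2 (Q ⊓ centralizer (Q : Set X))) :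
    n * x * n⁻¹ ∈ Cfsg.omegaOne 2 (Q ⊓ centralizer (Q : Set X)) := by
  rw [mem_omega_center] at hx ⊢
  have hq : ∀ q ∈ Q, n⁻¹ * q * n ∈ Q := fun q hq => by
    have := (Subgroup.mem_normalizer_iff.mp (inv_mem hn) q).mp hq
    rwa [inv_inv] at this
  refine ⟨(Subgroup.mem_normalizer_iff.mp hn x).mp hx.1, fun q hQ => ?_, ?_⟩
  · calc q * (n * x * n⁻¹) = n * ((n⁻¹ * q * n) * x) * n⁻¹ := by group
      _ = n * (x * (n⁻¹ * q * n)) * n⁻¹ := by rw [hx.2.1 _ (hq q hQ)]
      _ = _ := by group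
  · rw [show n * x * n⁻¹ * (n * x * n⁻¹) = n * (x * x) * n⁻¹ by group, hx.2.2, mul_one,
      mul_inv_cancel]

theorem normalizer_le_normalizer_omega_center {X : Type*} [Group X] (Q : Subgroup X) :
    normalizer (Q : Set X) ≤
      normalizer ((Cfsg.omegaOne 2 (Q ⊓ centralizer (Q : Set X)) : Subgroup X) : Set X) := by
  intro n hn
  refine Subgroup.mem_normalizer_iff.mpr fun x => ⟨fun hx => omega_center_conj hn hx, fun hx => ?_⟩
  have := omega_center_conj (inv_mem hn) hx
  rwa [show n⁻¹ * (n * x * n⁻¹) * n⁻¹⁻¹ = x by group] at this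

/-! ### Sylow facts -/

lemma map_eq_of_forall {P : Subgroup G} {x : G} (h : ∀ y ∈ P, x * y * x⁻¹ ∈ P) :
    P.map (MulAut.conj x).toMonoidHom = P := by
  refine eq_of_le_of_card_ge (fun w hw => ?_) ?_
  · obtain ⟨y, hy, rfl⟩ := hw; exact h y hy
  · rw [Subgroup.card_map_of_injective (MulAut.conj x).injective]

lemma mem_normalizer_of_map_eq {P : Subgroup G} {x : G}
    (h : P.map (MulAut.conj x).toMonoidHom = P) : x ∈ normalizer (P : Set G) := by
  refine Subgroup.mem_normalizer_iff.mpr fun y => ⟨fun hy => ?_, fun hy => ?_⟩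
  · rw [← h]; exact ⟨y, hy, rfl⟩
  · rw [← h] at hy
    obtain ⟨w, hw, he⟩ := hy
    have : x * w * x⁻¹ = x * y * x⁻¹ := he
    rwa [← mul_left_cancel (mul_right_cancel this)]

lemma mem_normalizer_of_forall {P : Subgroup G} {x : G} (h : ∀ y ∈ P, x * y * x⁻¹ ∈ P) :
    x ∈ normalizer (P : Set G) :=
  mem_normalizer_of_map_eq (map_eq_of_forall h)

/-- A 2-subgroup normalizing `S` lies in `S`. -/
lemma le_sylow_of_le_normalizer (S : Sylow 2 G) {P : Subgroup G} (hP : IsPGroup 2 P)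
    (hPN : P ≤ normalizer ((S : Subgroup G) : Set G)) : P ≤ S := by
  have h := IsPGroup.to_sup_of_normal_left' S.2 hP hPN
  exact le_sup_right.trans (S.3 h le_sup_left).le

/-- A 2-subgroup of an overgroup of `S` is conjugate in it into `S`. -/
lemma conj_into (S : Sylow 2 G) {M P : Subgroup G} (hSM : (S : Subgroup G) ≤ M) (hPM : P ≤ M)
    (hP : IsPGroup 2 P) : ∃ m ∈ M, ∀ y ∈ P, m * y * m⁻¹ ∈ (S : Subgroup G) := by
  obtain ⟨Q, hQ⟩ := (hP.comap_subtype (K := M)).exists_le_sylow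
  obtain ⟨g, hg⟩ := MulAction.exists_smul_eq M Q (S.subtype hSM)
  refine ⟨g, g.2, fun y hy => ?_⟩
  have h1 : g * (⟨y, hPM hy⟩ : M) * g⁻¹ ∈ ((S.subtype hSM : Sylow 2 M) : Subgroup M) := by
    rw [← hg, Sylow.coe_subgroup_smul]
    exact Subgroup.smul_mem_pointwise_smul _ _ _ (hQ (show (⟨y, hPM hy⟩ : M) ∈ P.subgroupOf M from hy))
  exact h1

lemma exists_conj_le (S : Sylow 2 G) {P : Subgroup G} (hP : IsPGroup 2 P) :
    ∃ x : G, ∀ y ∈ P, x * y * x⁻¹ ∈ (S : Subgroup G) := by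
  obtain ⟨m, -, hm⟩ := conj_into S (M := ⊤) le_top le_top hP
  exact ⟨m, hm⟩

lemma exists_maxTwo {K P : Subgroup G} (hP : IsPGroup 2 P) (hPK : P ≤ K) :
    ∃ T, P ≤ T ∧ T ≤ K ∧ IsPGroup 2 T ∧ MaxTwo K T := by
  obtain ⟨T, ⟨h1, h2, h3⟩, hmax⟩ := (wellFounded_gt (α := Subgroup G)).has_min
    {T : Subgroup G | P ≤ T ∧ T ≤ K ∧ IsPGroup 2 T} ⟨P, le_rfl, hPK, hP⟩
  refine ⟨T, h1, h2, h3, fun Q hQ hQK hTQ => ?_⟩
  by_contra hne
  exact hmax Q ⟨h1.trans hTQ, hQK, hQ⟩ (lt_of_le_not_ge hTQ hne)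

/-- A maximal 2-subgroup, as a Sylow subgroup. -/
def maxTwoSylow {K T : Subgroup G} (hT : IsPGroup 2 T) (hTK : T ≤ K) (hmax : MaxTwo K T) : Sylow 2 K where
  toSubgroup := T.subgroupOf K
  isPGroup' := hT.comap_subtype
  is_maximal' := fun {Q} hQ hle => by
    refine le_antisymm (fun q hq => mem_subgroupOf.mpr (hmax (Q.map K.subtype) (hQ.map _)
      (map_subtype_le _) (fun y hy => ⟨⟨y, hTK hy⟩, hle (mem_subgroupOf.mpr hy), rfl⟩) ⟨q, hq, rfl⟩)) hle

lemma MaxTwo.conj_into {K T P : Subgroup G} (hmax : MaxTwo K T) (hT : IsPGroup 2 T) (hTK : T ≤ K)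
    (hP : IsPGroup 2 P) (hPK : P ≤ K) : ∃ k ∈ K, ∀ y ∈ P, k * y * k⁻¹ ∈ T := by
  obtain ⟨Q, hQ⟩ := (hP.comap_subtype (K := K)).exists_le_sylow
  obtain ⟨g, hg⟩ := MulAction.exists_smul_eq K Q (maxTwoSylow hT hTK hmax)
  refine ⟨g, g.2, fun y hy => ?_⟩
  have h1 : g * (⟨y, hPK hy⟩ : K) * g⁻¹ ∈ ((maxTwoSylow hT hTK hmax : Sylow 2 K) : Subgroup K) := by
    rw [← hg, Sylow.coe_subgroup_smul]
    exact Subgroup.smul_mem_pointwise_smul _ _ _ (hQ (show (⟨y, hPK hy⟩ : K) ∈ P.subgroupOf K from hy))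
  exact h1

lemma cent_le_normalizer (S : Sylow 2 G)
    (hZ : centralizer (Cfsg.omegaOne 2 ((S : Subgroup G) ⊓ centralizer ((S : Subgroup G) : Set G)) : Set G)
      ≤ normalizer ((S : Subgroup G) : Set G)) {z : G}
    (huniq : ∀ x ∈ (S : Subgroup G), (∀ s ∈ (S : Subgroup G), s * x = x * s) → x * x = 1 → x ≠ 1 → x = z) :
    centralizer ({z} : Set G) ≤ normalizer ((S : Subgroup G) : Set G) := by
  refine fun c hc => hZ (mem_centralizer_iff.mpr fun x hx => ?_)
  obtain ⟨h1, h2, h3⟩ := (mem_omega_center _).mp hx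
  by_cases hx1 : x = 1
  · rw [hx1, one_mul, mul_one]
  · rw [huniq x h1 h2 h3 hx1]; exact (mem_cent.mp hc).symm

/-! ### Elementary abelian subgroups -/

lemma pgroup_card_ge {B : Subgroup G} (hB : IsPGroup 2 B) (h4 : 4 < Nat.card B) : 8 ≤ Nat.card B := by
  obtain ⟨k, hk⟩ := IsPGroup.iff_card.mp hB
  rw [hk] at h4 ⊢
  rcases Nat.lt_or_ge k 3 with h | h
  · interval_cases k <;> omega
  · calc 8 = 2 ^ 3 := rfl
      _ ≤ 2 ^ k := Nat.pow_le_pow_right (by norm_num) h

lemma four_le_card {V : Subgroup G} {a b : G} (ha : a ∈ V) (hb : b ∈ V) (ha1 : a ≠ 1) (hb1 : b ≠ 1)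
    (hab : a ≠ b) (ha2 : a * a = 1) : 4 ≤ Nat.card V := by
  classical
  have n1 : a * b ≠ 1 := fun e => hab (mul_left_cancel (a := a) (ha2.trans e.symm))
  have n2 : a * b ≠ a := fun e => hb1 (mul_eq_left.mp e)
  have n3 : a * b ≠ b := fun e => ha1 (mul_eq_right.mp e)
  have hsub : ({1, a, b, a * b} : Set G) ⊆ V := by
    intro x hx
    rcases hx with rfl | rfl | rfl | rfl
    exacts [one_mem _, ha, hb, mul_mem ha hb]
  have := Set.ncard_le_ncard hsub (Set.toFinite _)
  rw [Set.ncard_insert_of_notMem (by simp [ha1.symm, hb1.symm, n1.symm]),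
    Set.ncard_insert_of_notMem (by simp [hab, n2.symm]),
    Set.ncard_insert_of_notMem (by simp [n3.symm]), Set.ncard_singleton] at this
  rwa [← Nat.card_coe_set_eq] at this

lemma four_cases {V : Subgroup G} (hV : Cfsg.IsElementaryAbelian 2 V) (h4 : Nat.card V = 4) {a b : G}
    (ha : a ∈ V) (hb : b ∈ V) (ha1 : a ≠ 1) (hb1 : b ≠ 1) (hab : a ≠ b) {x : G} (hx : x ∈ V) :
    x = 1 ∨ x = a ∨ x = b ∨ x = a * b := by
  classical
  have ha2 : a * a = 1 := by rw [← pow_two]; exact hV.2 a ha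
  have n1 : a * b ≠ 1 := fun e => hab (mul_left_cancel (a := a) (ha2.trans e.symm))
  have n2 : a * b ≠ a := fun e => hb1 (mul_eq_left.mp e)
  have n3 : a * b ≠ b := fun e => ha1 (mul_eq_right.mp e)
  have hsub : ({1, a, b, a * b} : Set G) ⊆ V := by
    intro x hx
    rcases hx with rfl | rfl | rfl | rfl
    exacts [one_mem _, ha, hb, mul_mem ha hb]
  have hcard : ({1, a, b, a * b} : Set G).ncard = 4 := by
    rw [Set.ncard_insert_of_notMem (by simp [ha1.symm, hb1.symm, n1.symm]),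
      Set.ncard_insert_of_notMem (by simp [hab, n2.symm]),
      Set.ncard_insert_of_notMem (by simp [n3.symm]), Set.ncard_singleton]
  have he := Set.eq_of_subset_of_ncard_le hsub (by rw [hcard, ← Nat.card_coe_set_eq]; exact h4.le)
    (Set.toFinite _)
  rw [← SetLike.mem_coe, ← he] at hx
  simpa using hx

lemma exists_other {V : Subgroup G} (h4 : 4 ≤ Nat.card V) (a : G) :
    ∃ b ∈ V, b ≠ 1 ∧ b ≠ a := by
  classical
  by_contra h
  push Not at h
  have hsub : (V : Set G) ⊆ {1, a} := fun x hx => by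
    by_cases hx1 : x = 1
    · exact Or.inl hx1
    · exact Or.inr (h x hx hx1)
  have h1 := (Set.ncard_le_ncard hsub (Set.toFinite _)).trans (Set.ncard_insert_le _ _)
  rw [Set.ncard_singleton, ← Nat.card_coe_set_eq] at h1
  have : 4 ≤ 2 := h4.trans h1
  omega

lemma pair (a b : G) (ha : orderOf a = 2) (hb : orderOf b = 2) (hab : a * b = b * a) (hne : a ≠ b) :
    ∃ V : Subgroup G, Cfsg.IsElementaryAbelian 2 V ∧ Nat.card V = 4 ∧ a ∈ V ∧ b ∈ V ∧
      (∀ x ∈ V, x = 1 ∨ x = a ∨ x = b ∨ x = a * b) ∧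
      (∀ H : Subgroup G, a ∈ H → b ∈ H → V ≤ H) := by
  obtain ⟨hK, hcases⟩ := Involutions.TwoGroups.four_group ha hb hab hne
  refine ⟨closure ({a, b} : Set G), ?_, hK.card_four, subset_closure (Set.mem_insert _ _),
    subset_closure (Set.mem_insert_of_mem _ rfl), hcases, fun H h1 h2 => (closure_le _).mpr ?_⟩
  · refine ⟨Subgroup.isMulCommutative_closure ?_, fun x hx => ?_⟩
    · rintro x (rfl | rfl) y (rfl | rfl)
      exacts [rfl, hab, hab.symm, rfl]
    · haveI := hK
      have := IsKleinFour.mul_self (⟨x, hx⟩ : ↥(closure ({a, b} : Set G)))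
      rw [pow_two]
      exact congrArg Subtype.val this
  · rintro x (rfl | rfl)
    exacts [h1, h2]

lemma Big.isPGroup {S A : Subgroup G} (h : Big S A) : IsPGroup 2 A := Hyperplane.isPGroup h.2.1

/-- Commuting with a big subgroup gives membership in a big subgroup. -/
lemma HasBig.of_commute {S A : Subgroup G} (hA : Big S A) {t : G} (htS : t ∈ S)
    (ht : t * t = 1) (hc : ∀ a ∈ A, a * t = t * a) : HasBig S t := by
  refine ⟨A ⊔ zpowers t, ⟨sup_le hA.1 (zpowers_le.mpr htS),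
    PLocal.ThompsonSubgroup.IsElementaryAbelian.sup hA.2.1
      (PLocal.ThompsonSubgroup.isElementaryAbelian_zpowers (by rw [pow_two, ht])) ?_,
    hA.2.2.trans (card_le_of_le le_sup_left)⟩, mem_sup_right (mem_zpowers t)⟩
  intro a ha
  rw [mem_centralizer_iff]
  intro y hy
  obtain ⟨k, rfl⟩ := hy
  exact (((show Commute a t from hc a ha).zpow_right k).eq).symm

/-- An involution commuting with a third one of a four group gives a big subgroup. -/
lemma hasBig_of_three {S : Subgroup G} {z t y : G} (hzS : z ∈ S) (htS : t ∈ S) (hyS : y ∈ S)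
    (hz : orderOf z = 2) (ht : orderOf t = 2) (hy : y * y = 1) (hzt : z * t = t * z) (hne : z ≠ t)
    (hzy : z * y = y * z) (hty : t * y = y * t)
    (hy' : ¬ (y = 1 ∨ y = z ∨ y = t ∨ y = z * t)) : HasBig S t := by
  obtain ⟨V, hV, hV4, hzV, htV, hcases, hVle⟩ := pair z t hz ht hzt hne
  have hyV : y ∉ V := fun h => hy' (hcases y h)
  have hel : Cfsg.IsElementaryAbelian 2 (V ⊔ zpowers y) := by
    refine PLocal.ThompsonSubgroup.IsElementaryAbelian.sup hV
      (PLocal.ThompsonSubgroup.isElementaryAbelian_zpowers (by rw [pow_two, hy])) ?_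
    refine hVle _ ?_ ?_ <;> rw [zpowers_eq_closure, centralizer_closure, mem_centralizer_singleton_iff]
    exacts [hzy, hty]
  refine ⟨V ⊔ zpowers y, ⟨sup_le (hVle S hzS htS) (zpowers_le.mpr hyS), hel,
    pgroup_card_ge (Hyperplane.isPGroup hel) ?_⟩, mem_sup_left htV⟩
  rw [← hV4]
  by_contra hle
  push Not at hle
  exact hyV ((eq_of_le_of_card_ge (le_sup_left : V ≤ V ⊔ zpowers y) hle).ge
    (mem_sup_right (mem_zpowers y)))

/-! ### Transfer -/

lemma pResidual_no_index_two (N : Subgroup (Cfsg.pResidual 2 G)) : N.index ≠ 2 := by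
  intro h
  have hsub : Cfsg.pResidual 2 G ≤ N.map (Cfsg.pResidual 2 G).subtype := by
    refine (closure_le _).mpr fun g hg => ?_
    obtain ⟨m, hm⟩ : Odd (orderOf g) := Nat.odd_iff.mpr (Nat.two_dvd_ne_zero.mp fun h2 =>
      absurd (Nat.Coprime.coprime_dvd_left h2 hg) (by decide))
    have hgH : g ∈ Cfsg.pResidual 2 G := subset_closure hg
    refine ⟨(⟨g, hgH⟩ ^ (m + 1)) ^ 2, Subgroup.sq_mem_of_index_two h _, ?_⟩
    show (g ^ (m + 1)) ^ 2 = g
    rw [← pow_mul, show (m + 1) * 2 = orderOf g + 1 by omega, pow_succ, pow_orderOf_eq_one, one_mul]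
  have : N = ⊤ := (Subgroup.eq_top_iff' _).mpr fun x => by
    obtain ⟨y, hy, he⟩ := hsub x.2
    rwa [← Subtype.ext he]
  rw [this, index_top] at h
  omega

/-- Thompson transfer in `O^2(G)`: if two elements of `S ∩ O^2(G)` outside `K` have product in `K`, every
involution of `O^2(G)` has a conjugate in `S ∩ O^2(G) ∩ K`. -/
theorem exists_conj_mem_inter (S : Sylow 2 G) (K : Subgroup G)
    (hK : ∀ x ∈ (S : Subgroup G) ⊓ Cfsg.pResidual 2 G, ∀ y ∈ (S : Subgroup G) ⊓ Cfsg.pResidual 2 G,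
      x ∉ K → y ∉ K → x * y ∈ K)
    (t : G) (htH : t ∈ Cfsg.pResidual 2 G) (ht : orderOf t = 2) :
    ∃ h ∈ Cfsg.pResidual 2 G, h * t * h⁻¹ ∈ (S : Subgroup G) ⊓ Cfsg.pResidual 2 G ∧ h * t * h⁻¹ ∈ K := by
  set H := Cfsg.pResidual 2 G with hH
  have hHn : H.Normal := Transfer.NormalPComplement.pResidual_normal
  have hP : IsPGroup 2 ((S : Subgroup G).subgroupOf H) := S.2.comap_subtype
  have hidx : ¬ 2 ∣ ((S : Subgroup G).subgroupOf H).index := fun h =>
    S.not_dvd_index (h.trans (Cores.relIndex_dvd_index_right_normal (S : Subgroup G) H))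
  let P : Sylow 2 H := hP.toSylow hidx
  set M : Subgroup H := ((S : Subgroup G) ⊓ K).subgroupOf H
  have hto : (⟨t, htH⟩ : H) = ⟨t, htH⟩ := rfl
  have ht' : orderOf (⟨t, htH⟩ : H) = 2 := by rw [orderOf_mk, ht]
  suffices ∃ g : H, g * ⟨t, htH⟩ * g⁻¹ ∈ M by
    obtain ⟨g, hg⟩ := this
    exact ⟨g, g.2, ⟨hg.1, H.mul_mem (H.mul_mem g.2 htH) (H.inv_mem g.2)⟩, hg.2⟩
  by_cases hall : ∀ x ∈ (S : Subgroup G) ⊓ H, x ∈ K
  · obtain ⟨Q, hQ⟩ := (isPGroup_zpowers ht').exists_le_sylow
    obtain ⟨g, hg⟩ := MulAction.exists_smul_eq H Q P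
    refine ⟨g, ?_⟩
    have h1 : g * ⟨t, htH⟩ * g⁻¹ ∈ (P : Subgroup H) := by
      rw [← hg, Sylow.coe_subgroup_smul]
      exact Subgroup.smul_mem_pointwise_smul _ _ _ (hQ (mem_zpowers _))
    exact ⟨h1, hall _ ⟨h1, SetLike.coe_mem (g * ⟨t, htH⟩ * g⁻¹)⟩⟩
  · push Not at hall
    obtain ⟨a, ha, haK⟩ := hall
    refine Involutions.ThompsonTransfer.exists_conj_mem pResidual_no_index_two P M
      (fun x hx => hx.1) ?_ _ ht'
    rw [relIndex_eq_two_iff]
    refine ⟨⟨a, ha.2⟩, ha.1, fun b hb => ?_⟩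
    by_cases hbK : (b : G) ∈ K
    · refine Or.inr ⟨⟨hb, hbK⟩, fun h => haK ?_⟩
      exact (Subgroup.mul_mem_cancel_left K hbK).mp h.2
    · exact Or.inl ⟨⟨mul_mem hb ha.1, hK b ⟨hb, b.2⟩ a ha hbK haK⟩, fun h => hbK h.2⟩

/-! ### Strong embedding -/

lemma pResidual_not_le_normalizer (hO' : Cfsg.pPrimeCore 2 G = ⊥) (S : Sylow 2 G) {D : Subgroup G}
    (hD : D ≠ ⊥) (hDodd : (Nat.card D).Coprime 2)
    (hS : (S : Subgroup G) ≤ normalizer (D : Set G)) : ¬ Cfsg.pResidual 2 G ≤ normalizer (D : Set G) := by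
  intro h
  have htop : normalizer (D : Set G) = ⊤ := top_le_iff.mp
    ((Transfer.NormalPComplement.pResidual_sup_sylow S).ge.trans (sup_le h hS))
  haveI : D.Normal := normalizer_eq_top_iff.mp htop
  exact hD (le_bot_iff.mp (hO' ▸ PLocal.Cores.le_pPrimeCore hDodd))

theorem exists_stronglyEmbedded (S : Sylow 2 G) {M : Subgroup G} (hSM : (S : Subgroup G) ≤ M)
    (hNM : normalizer ((S : Subgroup G) : Set G) ≤ M) (hMH : ¬ Cfsg.pResidual 2 G ≤ M) {z : G}
    (hzS : z ∈ (S : Subgroup G)) (hzH : z ∈ Cfsg.pResidual 2 G) (hz : orderOf z = 2)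
    (hzc : ∀ s ∈ (S : Subgroup G), s * z = z * s)
    (hcent : ∀ t ∈ (S : Subgroup G) ⊓ Cfsg.pResidual 2 G, orderOf t = 2 → centralizer ({t} : Set G) ≤ M) :
    ∃ M' : Subgroup ↥(Cfsg.pResidual 2 G), Cfsg.IsStronglyEmbedded M' := by
  set H := Cfsg.pResidual 2 G with hH
  have hHn : H.Normal := Transfer.NormalPComplement.pResidual_normal
  refine ⟨M.subgroupOf H, Involutions.StronglyEmbedded.of_conj ?_ ?_ ?_⟩
  · intro h; exact hMH (subgroupOf_eq_top.mp h)
  · have hdvd := orderOf_dvd_natCard (⟨⟨z, hzH⟩, hSM hzS⟩ : M.subgroupOf H)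
    rw [← orderOf_coe, ← orderOf_coe, show (((⟨⟨z, hzH⟩, hSM hzS⟩ : M.subgroupOf H) : H) : G) = z from rfl,
      hz] at hdvd
    exact even_iff_two_dvd.mpr hdvd
  rintro t htM ht g hgt
  have ht2 : orderOf (t : G) = 2 := by rw [orderOf_coe, ht]
  have hcM : ∀ u ∈ M, u ∈ H → orderOf u = 2 → ∃ m ∈ M, m * u * m⁻¹ ∈ (S : Subgroup G) ⊓ H := by
    intro u hu huH huo
    obtain ⟨m, hm, hmu⟩ := conj_into S hSM (zpowers_le.mpr hu) (isPGroup_zpowers huo)
    exact ⟨m, hm, hmu u (mem_zpowers u), hHn.conj_mem u huH m⟩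
  obtain ⟨m₁, hm₁, h1⟩ := hcM t htM t.2 ht2
  obtain ⟨m₂, hm₂, h2⟩ := hcM ((g : G) * t * (g : G)⁻¹) hgt (hHn.conj_mem (t : G) t.2 g)
    (by rw [Involutions.Basic.orderOf_conj, ht2])
  show (g : G) ∈ M
  set t₁ := m₁ * (t : G) * m₁⁻¹
  set g' := m₂ * (g : G) * m₁⁻¹ with hg'
  have ht₁ : orderOf t₁ = 2 := by rw [Involutions.Basic.orderOf_conj, ht2]
  have he : g' * t₁ * g'⁻¹ = m₂ * ((g : G) * t * (g : G)⁻¹) * m₂⁻¹ := by simp only [t₁, g']; group
  suffices hg'M : g' ∈ M by
    have := mul_mem (mul_mem (inv_mem hm₂) hg'M) hm₁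
    rwa [hg', show m₂⁻¹ * (m₂ * (g : G) * m₁⁻¹) * m₁ = (g : G) by group] at this
  have hz2 : g'⁻¹ * z * g' ∈ centralizer ({t₁} : Set G) := by
    rw [mem_cent]
    have hcomm := hzc _ (he ▸ h2.1)
    calc g'⁻¹ * z * g' * t₁ = g'⁻¹ * (z * (g' * t₁ * g'⁻¹)) * g' := by group
      _ = g'⁻¹ * ((g' * t₁ * g'⁻¹) * z) * g' := by rw [hcomm]
      _ = t₁ * (g'⁻¹ * z * g') := by group
  have hz2H : g'⁻¹ * z * g' ∈ H := by simpa using hHn.conj_mem z hzH g'⁻¹
  have hz2o : orderOf (g'⁻¹ * z * g') = 2 := by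
    have := Involutions.Basic.orderOf_conj g'⁻¹ z
    rwa [inv_inv, hz] at this
  obtain ⟨m, hm, h3⟩ := hcM _ (hcent t₁ h1 ht₁ hz2) hz2H hz2o
  set k := m * g'⁻¹ with hk
  have hcz := hcent _ h3 (by rw [Involutions.Basic.orderOf_conj, hz2o])
  have hkS : (S : Subgroup G).map (MulAut.conj k).toMonoidHom ≤ M := by
    rintro _ ⟨s, hs, rfl⟩
    refine hcz (mem_cent.mpr ?_)
    show k * s * k⁻¹ * _ = _
    calc k * s * k⁻¹ * (m * (g'⁻¹ * z * g') * m⁻¹) = k * (s * z) * k⁻¹ := by rw [hk]; group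
      _ = k * (z * s) * k⁻¹ := by rw [hzc s hs]
      _ = m * (g'⁻¹ * z * g') * m⁻¹ * (k * s * k⁻¹) := by rw [hk]; group
  obtain ⟨m', hm', hm'S⟩ := conj_into S hSM hkS (S.2.map _)
  have hn : m' * k ∈ normalizer ((S : Subgroup G) : Set G) := by
    refine mem_normalizer_of_forall fun s hs => ?_
    have := hm'S _ ⟨s, hs, rfl⟩
    rw [show (MulAut.conj k).toMonoidHom s = k * s * k⁻¹ from rfl] at this
    rwa [show m' * k * s * (m' * k)⁻¹ = m' * (k * s * k⁻¹) * m'⁻¹ by group]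
  have hkM : k ∈ M := by
    have := mul_mem (inv_mem hm') (hNM hn)
    rwa [inv_mul_cancel_left] at this
  have := mul_mem (inv_mem hkM) hm
  rwa [hk, mul_inv_rev, inv_inv, inv_mul_cancel_right] at this

/-! ### Characteristic two type -/

theorem charTwo {X : Type*} [Group X] [Finite X] (heven : Even (Nat.card X))
    (hC : ∀ t : X, orderOf t = 2 → Group.IsSolvable ↥(centralizer ({t} : Set X)))
    (hθ : ∀ t : X, orderOf t = 2 → Cfsg.centralizerPPrimeCore 2 t = ⊥) :
    Cfsg.IsCharacteristicTwoType X := by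
  refine ⟨heven, fun T hT hT1 => ?_⟩
  obtain ⟨t, htT, -, hto, htc⟩ := exists_central hT (le_normalizer (H := T))
    (by rwa [inf_idem])
  set L := normalizer (T : Set X) with hL
  set C := centralizer ({t} : Set X) with hCdef
  haveI := hC t hto
  have hTL : T ≤ L := le_normalizer
  have hTC : T ≤ C := fun s hs => mem_cent.mpr (htc s hs).symm.eq
  set T' := T.subgroupOf L
  haveI hT'n : T'.Normal := normal_in_normalizer
  -- the odd core
  have hcore : Cfsg.pPrimeCore 2 L = ⊥ := by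
    set D := (Cfsg.pPrimeCore 2 L).map L.subtype with hDdef
    have hdisj : Disjoint (Cfsg.pPrimeCore 2 L) T' := by
      obtain ⟨k, hk⟩ := IsPGroup.iff_card.mp (hT.comap_subtype (K := L))
      refine disjoint_of_coprime_natCard ?_
      rw [show Nat.card T' = 2 ^ k from hk]
      exact (Cores.pPrimeCore_card_coprime (G := L) 2).pow_right k
    have hDT : ∀ d ∈ D, ∀ s ∈ T, d * s = s * d := by
      rintro _ ⟨d, hd, rfl⟩ s hs
      exact congrArg Subtype.val (Subgroup.commute_of_normal_of_disjoint _ _ inferInstance hT'n hdisj d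
        (⟨s, hTL hs⟩ : L) hd (mem_subgroupOf.mpr hs)).eq
    have hDC : D ≤ C := fun d hd => mem_cent.mpr (hDT d hd t htT)
    have hDn : L ≤ normalizer (D : Set X) := by
      refine le_normalizer_of_normal_subgroupOf (hK := ?_) (map_subtype_le _)
      rw [hDdef, subgroupOf, comap_map_eq_self_of_injective L.subtype_injective]
      infer_instance
    have h1 : D.subgroupOf C ≤ Cfsg.pPrimeCore 2 C := by
      refine Balance.le_pPrimeCore_of_normalized Balance.pLayer_eq_bot_of_isSolvable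
        (hT.comap_subtype (K := C)) ?_ ?_ ?_
      · intro d hd
        refine mem_centralizer_iff.mpr fun s hs => Subtype.ext ?_
        exact (hDT d (mem_subgroupOf.mp hd) s (mem_subgroupOf.mp hs)).symm
      · intro c hc
        refine le_normalizer_comap C.subtype (hDn ?_)
        refine mem_normalizer_of_forall fun s hs => ?_
        have := congrArg Subtype.val (mem_centralizer_iff.mp hc ⟨s, hTC hs⟩ (mem_subgroupOf.mpr hs))
        show (c : X) * s * (c : X)⁻¹ ∈ T
        have h' : s * (c : X) = (c : X) * s := this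
        rwa [← h', mul_inv_cancel_right]
      · rw [Nat.card_congr (subgroupOfEquivOfLe hDC).toEquiv, hDdef,
          card_map_of_injective L.subtype_injective]
        exact Cores.pPrimeCore_card_coprime 2
    have h2 : D ≤ Cfsg.centralizerPPrimeCore 2 t := by
      have := Subgroup.map_mono (f := C.subtype) h1
      rwa [map_subgroupOf_eq_of_le hDC] at this
    rw [hθ t hto, le_bot_iff, hDdef, map_eq_bot_iff_of_injective _ L.subtype_injective] at h2
    exact h2
  have htp : (⟨t, hTL htT⟩ : L) ∈ Cfsg.pCore 2 L :=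
    le_sSup (α := Subgroup L) (s := {N : Subgroup L | N.Normal ∧ IsPGroup 2 N})
      ⟨hT'n, hT.comap_subtype⟩ (mem_subgroupOf.mpr htT)
  have hlayer : Cfsg.layer L = ⊥ := by
    refine Components.Basic.layer_eq_bot_iff.mpr fun K hK => ?_
    refine Components.Basic.component_not_isSolvable hK ?_
    have hKC : K.map L.subtype ≤ C := by
      rintro _ ⟨k, hk, rfl⟩
      have h1 : k ∈ centralizer (Cfsg.fittingSubgroup L : Set L) :=
        Fitting.layer_le_centralizer_fitting ((show K ≤ Cfsg.layer L from le_sSup hK) hk)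
      exact mem_cent.mpr (congrArg Subtype.val
        (mem_centralizer_iff.mp h1 ⟨t, hTL htT⟩ (Fitting.pCore_le_fitting 2 htp))).symm
    haveI : Group.IsSolvable ↥(K.map L.subtype) :=
      Group.isSolvable_of_isSolvable_injective (Subgroup.inclusion_injective hKC)
    exact Group.isSolvable_of_isSolvable_injective
      (f := (K.equivMapOfInjective _ L.subtype_injective).toMonoidHom)
      (K.equivMapOfInjective _ L.subtype_injective).injective
  have h := Fitting.centralizer_genFitting_le (G := L)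
  rwa [Cfsg.generalizedFittingSubgroup, hlayer, bot_sup_eq, PComponents.fitting_eq_pCore hcore] at h

lemma centralizerPPrimeCore_equiv {K : Type*} [Group K] [Finite K] (e : K ≃* K) {b : K}
    (hb : e b = b) :
    (Cfsg.centralizerPPrimeCore 2 b).map e.toMonoidHom = Cfsg.centralizerPPrimeCore 2 b := by
  have hgen : ∀ (H : Subgroup K),
      ((Cfsg.pPrimeCore 2 H).map H.subtype).map e.toMonoidHom =
        (Cfsg.pPrimeCore 2 (H.map e.toMonoidHom)).map (H.map e.toMonoidHom).subtype := fun H => by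
    rw [← PLocal.Cores.map_pPrimeCore_equiv (p := 2) (H.equivMapOfInjective e.toMonoidHom e.injective),
      Subgroup.map_map, Subgroup.map_map]
    rfl
  have hC : (centralizer ({b} : Set K)).map e.toMonoidHom = centralizer ({b} : Set K) := by
    ext x
    rw [Subgroup.mem_map_equiv, mem_cent, mem_cent]
    constructor
    · intro h
      have := congrArg e h
      rwa [map_mul, map_mul, MulEquiv.apply_symm_apply, hb] at this
    · intro h
      apply e.injective
      rw [map_mul, map_mul, MulEquiv.apply_symm_apply, hb, h]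
  rw [Cfsg.centralizerPPrimeCore, hgen, hC]

theorem charTwo_of_normal (hC : ∀ t : G, orderOf t = 2 → Group.IsSolvable ↥(centralizer ({t} : Set G)))
    (K : Subgroup G) [hKn : K.Normal] (heven : Even (Nat.card K))
    (hθ : ∀ t ∈ K, orderOf t = 2 → θ t = ⊥) : Cfsg.IsCharacteristicTwoType K := by
  refine charTwo heven (fun t ht => ?_) (fun t ht => ?_)
  · haveI := hC (t : G) (by rw [orderOf_coe, ht])
    refine Group.isSolvable_of_isSolvable_injective (f := (⟨⟨fun x => (⟨(x : K), ?_⟩ : centralizer ({(t : G)} : Set G)),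
      rfl⟩, fun _ _ => rfl⟩ : centralizer ({t} : Set K) →* centralizer ({(t : G)} : Set G))) ?_
    · exact mem_cent.mpr (congrArg Subtype.val (mem_cent.mp x.2))
    · intro x y h
      have h' := congrArg (fun u : centralizer ({(t : G)} : Set G) => (u : G)) h
      exact Subtype.ext (Subtype.ext h')
  · have ht2 : orderOf (t : G) = 2 := by rw [orderOf_coe, ht]
    set D := (Cfsg.centralizerPPrimeCore 2 t).map K.subtype with hD
    set C := centralizer ({(t : G)} : Set G)
    have hDC : D ≤ C := by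
      rintro _ ⟨d, hd, rfl⟩
      exact mem_cent.mpr (congrArg Subtype.val
        (mem_cent.mp (Balance.centralizerPPrimeCore_le_centralizer 2 t hd)))
    haveI : (D.subgroupOf C).Normal := by
      refine ⟨fun d hd c => ?_⟩
      obtain ⟨x, hx, hxd⟩ := mem_subgroupOf.mp hd
      have hfix : MulAut.conjNormal (c : G) t = t := Subtype.ext (by
        rw [MulAut.conjNormal_apply, mem_cent.mp c.2, mul_inv_cancel_right])
      refine mem_subgroupOf.mpr ⟨MulAut.conjNormal (c : G) x, ?_, ?_⟩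
      · rw [← centralizerPPrimeCore_equiv (MulAut.conjNormal (c : G)) hfix]
        exact ⟨x, hx, rfl⟩
      · show ((MulAut.conjNormal (c : G) x : K) : G) = ((c * d * c⁻¹ : C) : G)
        rw [MulAut.conjNormal_apply, show (x : G) = (d : G) from hxd]
        rfl
    have h1 : D.subgroupOf C ≤ Cfsg.pPrimeCore 2 C := by
      refine PLocal.Cores.le_pPrimeCore ?_
      rw [Nat.card_congr (subgroupOfEquivOfLe hDC).toEquiv, hD, card_map_of_injective K.subtype_injective]
      exact Balance.centralizerPPrimeCore_coprime 2 t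
    have h2 : D ≤ θ (t : G) := by
      have := Subgroup.map_mono (f := C.subtype) h1
      rwa [map_subgroupOf_eq_of_le hDC] at this
    rw [hθ t t.2 ht2, le_bot_iff, hD, map_eq_bot_iff_of_injective _ K.subtype_injective] at h2
    exact h2

end Cfsg.Agent.GenA.ZC
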