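import Cfsg.Agent.GenA.ZC.Small

/-!
The case in which a Sylow 2-subgroup has an elementary abelian subgroup of order eight.
-/

set_option autoImplicit false
set_option linter.style.haveILetI false
set_option linter.unusedSectionVars false

namespace Cfsg.Agent.GenA.ZC

open Subgroup
open Cfsg.Agent.Components
open Cfsg.Agent.SolvableSignalizer

variable {G : Type*} [Group G] [Finite G]

local instance : Fact (Nat.Prime 2) := ⟨Nat.prime_two⟩

lemma map_joinOn (A : Subgroup G) (x : G) :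
    (joinOn θ A).map (MulAut.conj x).toMonoidHom = joinOn θ (A.map (MulAut.conj x).toMonoidHom) := by
  rw [joinOn, Subgroup.map_iSup]
  refine le_antisymm (iSup_le fun e => ?_) (iSup_le fun e => ?_)
  · rw [← centralizerPPrimeCore_conj 2 (e : G) x]
    exact le_iSup (fun e : {e : G // e ∈ A.map (MulAut.conj x).toMonoidHom ∧ e ≠ 1} => θ (e : G))
      ⟨x * e * x⁻¹, ⟨e, e.2.1, rfl⟩, fun h => e.2.2 (by simpa using h)⟩
  · obtain ⟨f, hf, hne⟩ := e
    obtain ⟨e, he, rfl⟩ := hf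
    show Cfsg.centralizerPPrimeCore 2 (x * e * x⁻¹) ≤ _
    rw [centralizerPPrimeCore_conj 2 e x]
    exact le_iSup (fun e : {e : G // e ∈ A ∧ e ≠ 1} =>
      (θ (e : G)).map (MulAut.conj x).toMonoidHom) ⟨e, he, fun h => hne (by simp [h])⟩

lemma Big.map {S A : Subgroup G} (hA : Big S A) {x : G} (hx : ∀ a ∈ A, x * a * x⁻¹ ∈ S) :
    Big S (A.map (MulAut.conj x).toMonoidHom) := by
  refine ⟨?_, PLocal.ThompsonSubgroup.IsElementaryAbelian.map hA.2.1 _, ?_⟩
  · rintro _ ⟨a, ha, rfl⟩; exact hx a ha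
  · rw [card_map_of_injective (MulAut.conj x).injective]; exact hA.2.2

/-- A four group normalized by a big subgroup lies in a big subgroup with the same join. -/
lemma big_sup (hC : ∀ t : G, orderOf t = 2 → Group.IsSolvable ↥(centralizer ({t} : Set G)))
    {S A V : Subgroup G} (hA : Big S A) (hVS : V ≤ S) (hV : Cfsg.IsElementaryAbelian 2 V)
    (h4 : Nat.card V = 4) (hAV : A ≤ normalizer (V : Set G)) {w : G} (hwV : w ∈ V) (hw1 : w ≠ 1)
    (hwA : ∀ a ∈ A, a * w = w * a) :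
    ∃ A', Big S A' ∧ V ≤ A' ∧ joinOn θ V = joinOn θ A := by
  classical
  obtain ⟨v, hvV, hv1, hvw⟩ := exists_other h4.ge w
  have hcases := fun x (hx : x ∈ V) => four_cases hV h4 hwV hvV hw1 hv1 (Ne.symm hvw) hx
  set A0 := A ⊓ centralizer (V : Set G) with hA0def
  have hA0 : ∀ a ∈ A, a * v = v * a → a ∈ A0 := by
    refine fun a ha hav => ⟨ha, mem_centralizer_iff.mpr fun x hx => ?_⟩
    have cw : Commute w a := (show Commute a w from hwA a ha).symm
    have cv : Commute v a := (show Commute a v from hav).symm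
    rcases hcases x hx with rfl | rfl | rfl | rfl
    exacts [(Commute.one_left a).eq, cw.eq, cv.eq, (cw.mul_left cv).eq]
  have himage : ∀ a ∈ A, a * v ≠ v * a → a * v * a⁻¹ = w * v := by
    intro a ha hne
    rcases hcases _ ((Subgroup.mem_normalizer_iff.mp (hAV ha) v).mp hvV) with h | h | h | h
    · exact absurd (by simpa using h) hv1
    · exact absurd (mul_left_cancel (mul_right_cancel (h.trans (by rw [hwA a ha, mul_inv_cancel_right] :
        w = a * w * a⁻¹)))) hvw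
    · exact absurd (mul_inv_eq_iff_eq_mul.mp h) hne
    · exact h
  have hcard : Nat.card A ≤ 2 * Nat.card A0 := by
    by_cases hall : ∀ a ∈ A, a * v = v * a
    · have : Nat.card A ≤ Nat.card A0 := card_le_of_le fun a ha => hA0 a ha (hall a ha)
      omega
    push Not at hall
    obtain ⟨c, hc, hcv⟩ := hall
    have hprod : ∀ b ∈ A, b * v ≠ v * b → c⁻¹ * b ∈ A0 := by
      intro b hb hbv
      refine hA0 _ (mul_mem (inv_mem hc) hb) (mul_inv_eq_iff_eq_mul.mp ?_)
      rw [show c⁻¹ * b * v * (c⁻¹ * b)⁻¹ = c⁻¹ * (b * v * b⁻¹) * c by group, himage b hb hbv,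
        ← himage c hc hcv]
      group
    let f : A → A0 ⊕ A0 := fun b => if h : (b : G) * v = v * b then .inl ⟨b, hA0 b b.2 h⟩
      else .inr ⟨c⁻¹ * b, hprod b b.2 h⟩
    have hf : Function.Injective f := by
      intro x y h
      by_cases hx : (x : G) * v = v * x <;> by_cases hy : (y : G) * v = v * y <;>
        simp only [f, hx, hy, dite_true, dite_false, Sum.inl.injEq, Sum.inr.injEq, reduceCtorEq,
          Subtype.mk.injEq] at h
      · exact Subtype.ext h
      · exact Subtype.ext (mul_left_cancel h)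
    have := Nat.card_le_card_of_injective f hf
    rwa [Nat.card_sum, ← two_mul] at this
  have hA0e : Cfsg.IsElementaryAbelian 2 A0 :=
    PLocal.ThompsonSubgroup.IsElementaryAbelian.mono hA.2.1 inf_le_left
  have hA'e : Cfsg.IsElementaryAbelian 2 (A0 ⊔ V) :=
    PLocal.ThompsonSubgroup.IsElementaryAbelian.sup hA0e hV inf_le_right
  have h4A0 : 4 ≤ Nat.card A0 := by have := hA.2.2; omega
  have h8 : 8 ≤ Nat.card ↥(A0 ⊔ V) := by
    by_contra hlt
    have hle : Nat.card ↥(A0 ⊔ V) ≤ 4 := by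
      by_contra h
      exact hlt (pgroup_card_ge (Hyperplane.isPGroup hA'e) (Nat.not_le.mp h))
    have e1 : A0 = A0 ⊔ V := eq_of_le_of_card_ge le_sup_left (hle.trans h4A0)
    have e2 : V = A0 ⊔ V := eq_of_le_of_card_ge le_sup_right (hle.trans h4.ge)
    have hVA : V ≤ A := e2.le.trans (e1.ge.trans inf_le_left)
    have h3 : A ≤ A0 := le_inf le_rfl fun a ha => mem_centralizer_iff.mpr fun x hx =>
      Hyperplane.mem_comm hA.2.1 (hVA hx) ha
    have := card_le_of_le h3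
    have := card_le_of_le (e1.le.trans' (le_refl A0))
    rw [← e1] at hle
    have := hA.2.2
    omega
  refine ⟨A0 ⊔ V, ⟨sup_le (inf_le_left.trans hA.1) hVS, hA'e, h8⟩, le_sup_right, ?_⟩
  have B := balanced hC
  rw [B.join_eq hA'e h8 le_sup_right (by rw [h4]; norm_num),
    ← B.join_eq hA'e h8 le_sup_left (le_of_eq_of_le (by norm_num) h4A0),
    B.join_eq hA.2.1 hA.2.2 inf_le_left (le_of_eq_of_le (by norm_num) h4A0)]

/-- A normal four group of `S`. -/
lemma exists_four (S : Sylow 2 G) {A : Subgroup G} (hA : Big (S : Subgroup G) A) :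
    ∃ (U : Subgroup G) (z : G), U ≤ S ∧ Cfsg.IsElementaryAbelian 2 U ∧ Nat.card U = 4 ∧
      (S : Subgroup G) ≤ normalizer (U : Set G) ∧ z ∈ U ∧ orderOf z = 2 ∧
      ∀ s ∈ (S : Subgroup G), s * z = z * s := by
  set E := A.subgroupOf (S : Subgroup G) with hE
  obtain ⟨U0, hU0n, hU0⟩ := Involutions.TwoGroups.exists_normal_four_group S.2 E
    (fun a ha b hb => Subtype.ext (Hyperplane.mem_comm hA.2.1 (mem_subgroupOf.mp ha) (mem_subgroupOf.mp hb)))
    (fun a ha => Subtype.ext (by rw [← pow_two]; exact hA.2.1.2 _ (mem_subgroupOf.mp ha)))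
    (by rw [hE, Nat.card_congr (subgroupOfEquivOfLe hA.1).toEquiv]; exact hA.2.2)
  set U := U0.map (S : Subgroup G).subtype
  have h4 : Nat.card U = 4 := by
    rw [card_map_of_injective (S : Subgroup G).subtype_injective]; exact hU0.card_four
  have hU0e : Cfsg.IsElementaryAbelian 2 U0 := by
    have hsq := ((Involutions.TwoGroups.isKleinFour_iff U0).mp hU0).2
    refine ⟨⟨⟨fun a b => Subtype.ext ?_⟩⟩, fun a ha => by rw [pow_two]; exact hsq a ha⟩
    have h1 := hsq _ (mul_mem a.2 b.2)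
    have ha := inv_eq_of_mul_eq_one_right (hsq a a.2)
    have hb := inv_eq_of_mul_eq_one_right (hsq b b.2)
    have h2 := (inv_eq_of_mul_eq_one_right h1).symm
    show (a : (S : Subgroup G)) * b = b * a
    rw [h2, mul_inv_rev, ha, hb]
  have hUn : (S : Subgroup G) ≤ normalizer (U : Set G) := fun s hs => mem_normalizer_of_forall (by
    rintro _ ⟨u, hu, rfl⟩
    exact ⟨⟨s, hs⟩ * u * ⟨s, hs⟩⁻¹, hU0n.conj_mem u hu _, rfl⟩)
  obtain ⟨z, -, hzU, hz, hzc⟩ := exists_central S.2 hUn (by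
    rw [inf_eq_right.mpr (map_subtype_le _)]
    intro h; rw [show U = ⊥ from h, card_bot] at h4; omega)
  exact ⟨U, z, map_subtype_le _, PLocal.ThompsonSubgroup.IsElementaryAbelian.map hU0e _, h4, hUn, hzU, hz,
    fun s hs => (hzc s hs).eq.symm⟩

/-- The centralizer of a fully centralized involution in a big subgroup. -/
theorem cent_le_of_maxTwo (hC : ∀ t : G, orderOf t = 2 → Group.IsSolvable ↥(centralizer ({t} : Set G)))
    (S : Sylow 2 G)
    (hZ : centralizer (Cfsg.omegaOne 2 ((S : Subgroup G) ⊓ centralizer ((S : Subgroup G) : Set G)) : Set G)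
      ≤ normalizer ((S : Subgroup G) : Set G))
    {W : Subgroup G} (hW : ∀ A, Big (S : Subgroup G) A → joinOn θ A = W)
    (hNW : normalizer ((S : Subgroup G) : Set G) ≤ normalizer (W : Set G))
    {t : G} (htS : t ∈ (S : Subgroup G)) (ht : orderOf t = 2) (hbig : HasBig (S : Subgroup G) t)
    (hmax : MaxTwo (centralizer ({t} : Set G)) ((S : Subgroup G) ⊓ centralizer ({t} : Set G))) :
    centralizer ({t} : Set G) ≤ normalizer (W : Set G) := by
  have ht1 := Involutions.Basic.ne_one ht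
  by_cases hw : ∃ w ∈ (S : Subgroup G), (∀ s ∈ (S : Subgroup G), s * w = w * s) ∧ w * w = 1 ∧ w ≠ 1 ∧ w ≠ t
  swap
  · refine le_trans (cent_le_normalizer S hZ fun x h1 h2 h3 h4 => ?_) hNW
    by_contra h
    exact hw ⟨x, h1, h2, h3, h4, h⟩
  obtain ⟨w, hwS, hwc, hww, hw1, hwt⟩ := hw
  set C := centralizer ({t} : Set G) with hCdef
  haveI hsolv : Group.IsSolvable C := hC t ht
  set T : Sylow 2 C := maxTwoSylow (S.2.to_le inf_le_left) inf_le_right hmax with hTdef
  have hTS : ∀ x : C, x ∈ (T : Subgroup C) → (x : G) ∈ (S : Subgroup G) := fun x hx =>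
    (mem_subgroupOf.mp hx).1
  have hST : ∀ x : C, (x : G) ∈ (S : Subgroup G) → x ∈ (T : Subgroup C) := fun x hx =>
    mem_subgroupOf.mpr ⟨hx, x.2⟩
  set P := Cfsg.pPrimePCore 2 C with hP
  set Q := (T : Subgroup C) ⊓ P with hQ
  let QP : Sylow 2 P := (IsPGroup.comap_subtype (K := P) T.2).toSylow fun h =>
    T.not_dvd_index (h.trans (Cores.relIndex_dvd_index_right_normal (T : Subgroup C) P))
  have hQP : (QP : Subgroup P).map P.subtype = Q := subgroupOf_map_subtype _ _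
  set q := QuotientGroup.mk' (Cfsg.pPrimeCore 2 C) with hq
  have hQq : Q.map q = Cfsg.pCore 2 (C ⧸ Cfsg.pPrimeCore 2 C) := hQP ▸ Local.map_sylow_pPrimePCore QP
  have hPle : P ≤ Q ⊔ Cfsg.pPrimeCore 2 C := by
    show Subgroup.comap q (Cfsg.pCore 2 _) ≤ _
    rw [← hQq, comap_map_eq, hq, QuotientGroup.ker_mk']
  have htop : normalizer (Q : Set C) ⊔ Cfsg.pPrimeCore 2 C = ⊤ := by
    have h := Sylow.normalizer_sup_eq_top QP
    rw [hQP] at h
    exact top_le_iff.mp (h.ge.trans (sup_le le_sup_left (hPle.trans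
      (sup_le ((le_normalizer (H := Q)).trans le_sup_left) le_sup_right))))
  -- constrained
  have hcons : centralizer (Cfsg.pCore 2 (C ⧸ Cfsg.pPrimeCore 2 C) : Set (C ⧸ Cfsg.pPrimeCore 2 C)) ≤
      Cfsg.pCore 2 (C ⧸ Cfsg.pPrimeCore 2 C) := by
    have := Fitting.centralizer_genFitting_le (G := C ⧸ Cfsg.pPrimeCore 2 C)
    rwa [Cfsg.generalizedFittingSubgroup,
      PComponents.pLayer_eq_bot_iff.mp Balance.pLayer_eq_bot_of_isSolvable, bot_sup_eq,
      PComponents.fitting_eq_pCore (Cores.pPrimeCore_quotient_self 2)] at this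
  have hinQ : ∀ y ∈ (T : Subgroup C), (∀ x ∈ Q, x * y = y * x) → y ∈ Q := by
    intro y hy hyc
    refine ⟨hy, show q y ∈ Cfsg.pCore 2 _ from hcons (mem_centralizer_iff.mpr ?_)⟩
    rw [← hQq]
    rintro _ ⟨x, hx, rfl⟩
    rw [← map_mul, hyc x hx, map_mul]
  have htC : t ∈ C := mem_cent.mpr rfl
  have hwC : w ∈ C := mem_cent.mpr (hwc t htS).symm
  have htQ : (⟨t, htC⟩ : C) ∈ Q := hinQ _ (hST _ htS) fun x _ => Subtype.ext (mem_cent.mp x.2)
  have hwQ : (⟨w, hwC⟩ : C) ∈ Q := hinQ _ (hST _ hwS) fun x hx => Subtype.ext (hwc _ (hTS x hx.1))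
  set B' := Cfsg.omegaOne 2 (Q ⊓ centralizer (Q : Set C)) with hB'
  set B := B'.map C.subtype with hB
  have hBS : B ≤ S := by
    rintro _ ⟨x, hx, rfl⟩
    exact hTS x ((mem_omega_center Q).mp hx).1.1
  have hBe : Cfsg.IsElementaryAbelian 2 B :=
    PLocal.ThompsonSubgroup.IsElementaryAbelian.map (omega_center_elementary Q) _
  have htB : t ∈ B := ⟨⟨t, htC⟩, (mem_omega_center Q).mpr ⟨htQ,
    fun x _ => Subtype.ext (mem_cent.mp x.2), Subtype.ext (Involutions.Basic.inv_sq_one ht)⟩, rfl⟩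
  have hwB : w ∈ B := ⟨⟨w, hwC⟩, (mem_omega_center Q).mpr ⟨hwQ,
    fun x hx => Subtype.ext (hwc _ (hTS x hx.1)), Subtype.ext hww⟩, rfl⟩
  have hnorm : ∀ n ∈ normalizer (Q : Set C), (n : G) ∈ normalizer (B : Set G) := fun n hn =>
    le_normalizer_map C.subtype ⟨n, normalizer_le_normalizer_omega_center Q hn, rfl⟩
  have hTN : (T : Subgroup C) ≤ normalizer (Q : Set C) := fun x hx => mem_normalizer_of_forall fun y hy =>
    ⟨(T : Subgroup C).mul_mem ((T : Subgroup C).mul_mem hx hy.1) ((T : Subgroup C).inv_mem hx),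
      (PLocal.Cores.pPrimePCore_normal' (p := 2) (G := C)).conj_mem y hy.2 x⟩
  have hWB : joinOn θ B = W := by
    by_cases h8 : 8 ≤ Nat.card B
    · exact hW B ⟨hBS, hBe, h8⟩
    have h4 : Nat.card B = 4 := by
      refine le_antisymm ?_ (four_le_card htB hwB ht1 hw1 (Ne.symm hwt) (Involutions.Basic.inv_sq_one ht))
      by_contra h
      exact h8 (pgroup_card_ge (Hyperplane.isPGroup hBe) (Nat.not_le.mp h))
    obtain ⟨A, hA, htA⟩ := hbig
    have hAt : ∀ a ∈ A, a * t = t * a := fun a ha => Hyperplane.mem_comm hA.2.1 ha htA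
    obtain ⟨A', -, -, hj⟩ := big_sup hC hA hBS hBe h4
      (fun a ha => hnorm ⟨a, mem_cent.mpr (hAt a ha)⟩ (hTN (hST _ (hA.1 ha)))) htB ht1 hAt
    exact hj.trans (hW A hA)
  intro c hc
  have hmap := (Subgroup.map_sup (normalizer (Q : Set C)) (Cfsg.pPrimeCore 2 C) C.subtype)
  rw [htop, ← MonoidHom.range_eq_map, range_subtype] at hmap
  rw [hmap] at hc
  refine (sup_le ?_ ?_ : _ ≤ normalizer (W : Set G)) hc
  · rintro _ ⟨n, hn, rfl⟩
    refine mem_normalizer_of_map_eq ?_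
    have hBn : B.map (MulAut.conj (n : G)).toMonoidHom = B :=
      map_eq_of_forall fun y hy => (Subgroup.mem_normalizer_iff.mp (hnorm n hn) y).mp hy
    rw [← hWB, map_joinOn]
    exact congrArg _ hBn
  · obtain ⟨A, hA, htA⟩ := hbig
    refine le_trans ?_ (le_normalizer (H := W))
    rw [← hW A hA]
    exact le_iSup (fun e : {e : G // e ∈ A ∧ e ≠ 1} => θ (e : G)) ⟨t, htA, ht1⟩

/-- The signalizer in the high rank case. -/
theorem exists_signalizer (hC : ∀ t : G, orderOf t = 2 → Group.IsSolvable ↥(centralizer ({t} : Set G)))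
    (S : Sylow 2 G)
    (hZ : centralizer (Cfsg.omegaOne 2 ((S : Subgroup G) ⊓ centralizer ((S : Subgroup G) : Set G)) : Set G)
      ≤ normalizer ((S : Subgroup G) : Set G)) {A₀ : Subgroup G} (hA₀ : Big (S : Subgroup G) A₀) :
    ∃ W : Subgroup G, (Nat.card W).Coprime 2 ∧
      normalizer ((S : Subgroup G) : Set G) ≤ normalizer (W : Set G) ∧
      ∀ t ∈ (S : Subgroup G), orderOf t = 2 → HasBig (S : Subgroup G) t →
        θ t ≤ W ∧ centralizer ({t} : Set G) ≤ normalizer (W : Set G) := by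
  have B := balanced hC
  obtain ⟨U, z, hUS, hUe, hU4, hSU, hzU, hz, hzc⟩ := exists_four S hA₀
  set W := joinOn θ U
  have hW : ∀ A, Big (S : Subgroup G) A → joinOn θ A = W := fun A hA => by
    obtain ⟨A', -, -, hj⟩ := big_sup hC hA hUS hUe hU4 (hA.1.trans hSU) hzU
      (Involutions.Basic.ne_one hz) fun a ha => hzc a (hA.1 ha)
    exact hj.symm
  have hconj : ∀ A, Big (S : Subgroup G) A → ∀ x : G, (∀ a ∈ A, x * a * x⁻¹ ∈ (S : Subgroup G)) →
      x ∈ normalizer (W : Set G) := fun A hA x hx => by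
    refine mem_normalizer_of_map_eq ?_
    conv_lhs => rw [← hW A hA]
    rw [map_joinOn]
    exact hW _ (hA.map hx)
  have hNW : normalizer ((S : Subgroup G) : Set G) ≤ normalizer (W : Set G) := fun x hx =>
    hconj A₀ hA₀ x fun a ha => (Subgroup.mem_normalizer_iff.mp hx a).mp (hA₀.1 ha)
  refine ⟨W, ?_, hNW, fun t htS ht hbig => ⟨?_, ?_⟩⟩
  · have hm := iSup_mem Nat.prime_two hA₀.2.1 hA₀.2.2 (B.functor hA₀.2.1 hA₀.2.2)
    rw [← hW A₀ hA₀]
    exact (Nat.prime_two.coprime_iff_not_dvd.mpr hm.2.1).symm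
  · obtain ⟨A, hA, htA⟩ := hbig
    rw [← hW A hA]
    exact le_iSup (fun e : {e : G // e ∈ A ∧ e ≠ 1} => θ (e : G)) ⟨t, htA, Involutions.Basic.ne_one ht⟩
  obtain ⟨A, hA, htA⟩ := hbig
  obtain ⟨T, hT0T, hTC, hT, hTmax⟩ := exists_maxTwo (K := centralizer ({t} : Set G))
    (S.2.to_le (inf_le_left (b := centralizer ({t} : Set G)))) inf_le_right
  obtain ⟨x, hx⟩ := exists_conj_le S hT
  have hAT : A ≤ T := fun a ha => hT0T ⟨hA.1 ha, mem_cent.mpr (Hyperplane.mem_comm hA.2.1 ha htA)⟩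
  have hxW : x ∈ normalizer (W : Set G) := hconj A hA x fun a ha => hx a (hAT ha)
  set t' := x * t * x⁻¹ with ht'
  have ht'S : t' ∈ (S : Subgroup G) := hx t (hAT htA)
  have hbig' : HasBig (S : Subgroup G) t' :=
    ⟨_, hA.map fun a ha => hx a (hAT ha), ⟨t, htA, rfl⟩⟩
  have hmax : MaxTwo (centralizer ({t'} : Set G)) ((S : Subgroup G) ⊓ centralizer ({t'} : Set G)) := by
    intro P hP hPC hle p hp
    refine ⟨?_, hPC hp⟩
    have h := hTmax (P.map (MulAut.conj x⁻¹).toMonoidHom) (hP.map _) ?_ ?_ ⟨p, hp, rfl⟩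
    · have := hx _ h
      rwa [show x * (MulAut.conj x⁻¹).toMonoidHom p * x⁻¹ = p by simp [mul_assoc]] at this
    · rintro _ ⟨y, hy, rfl⟩
      refine mem_cent.mpr ?_
      have h := mem_cent.mp (hPC hy)
      show x⁻¹ * y * x⁻¹⁻¹ * t = t * (x⁻¹ * y * x⁻¹⁻¹)
      calc x⁻¹ * y * x⁻¹⁻¹ * t = x⁻¹ * (y * t') * x := by rw [ht']; group
        _ = x⁻¹ * (t' * y) * x := by rw [h]
        _ = t * (x⁻¹ * y * x⁻¹⁻¹) := by rw [ht']; group
    · intro y hy
      refine ⟨x * y * x⁻¹, hle ⟨hx y hy, mem_cent.mpr ?_⟩, ?_⟩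
      · rw [ht', show x * y * x⁻¹ * (x * t * x⁻¹) = x * (y * t) * x⁻¹ by group,
          mem_cent.mp (hTC hy)]
        group
      · show x⁻¹ * (x * y * x⁻¹) * x⁻¹⁻¹ = y
        group
  have hle := cent_le_of_maxTwo hC S hZ hW hNW ht'S
    (by rw [ht', Involutions.Basic.orderOf_conj, ht]) hbig' hmax
  intro c hc
  have hc' : x * c * x⁻¹ ∈ centralizer ({t'} : Set G) := by
    rw [mem_cent, ht', show x * c * x⁻¹ * (x * t * x⁻¹) = x * (c * t) * x⁻¹ by group, mem_cent.mp hc]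
    group
  have := mul_mem (mul_mem (inv_mem hxW) (hle hc')) hxW
  rwa [show x⁻¹ * (x * c * x⁻¹) * x = c by group] at this

/-- With an elementary abelian subgroup of order eight, every involution of `S ∩ O^2(G)` lies in one. -/
theorem hasBig_of_unique (hC : ∀ t : G, orderOf t = 2 → Group.IsSolvable ↥(centralizer ({t} : Set G)))
    (S : Sylow 2 G)
    (hZ : centralizer (Cfsg.omegaOne 2 ((S : Subgroup G) ⊓ centralizer ((S : Subgroup G) : Set G)) : Set G)
      ≤ normalizer ((S : Subgroup G) : Set G)) {A₀ : Subgroup G} (hA₀ : Big (S : Subgroup G) A₀) {z : G}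
    (hzS : z ∈ (S : Subgroup G)) (hz : orderOf z = 2) (hzc : ∀ s ∈ (S : Subgroup G), s * z = z * s)
    (huniq : ∀ x ∈ (S : Subgroup G), (∀ s ∈ (S : Subgroup G), s * x = x * s) → x * x = 1 → x ≠ 1 → x = z)
    {t : G} (htR : t ∈ (S : Subgroup G) ⊓ Cfsg.pResidual 2 G) (ht : orderOf t = 2) :
    HasBig (S : Subgroup G) t := by
  classical
  have hz1 := Involutions.Basic.ne_one hz
  have hzz := Involutions.Basic.inv_sq_one hz
  obtain ⟨U, z', hUS, hUe, hU4, hSU, hzU, hz', hzc'⟩ := exists_four S hA₀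
  obtain rfl : z' = z := huniq z' (hUS hzU) hzc' (Involutions.Basic.inv_sq_one hz')
    (Involutions.Basic.ne_one hz')
  obtain ⟨A₁, hA₁, hUA₁, -⟩ := big_sup hC hA₀ hUS hUe hU4 (hA₀.1.trans hSU) hzU hz1
    fun a ha => hzc a (hA₀.1 ha)
  obtain ⟨b, hbU, hb1, hbz⟩ := exists_other hU4.ge z'
  have hb2 : b * b = 1 := by rw [← pow_two]; exact hUe.2 b hbU
  have hbn : ∀ s ∈ (S : Subgroup G), s * b * s⁻¹ = b ∨ s * b * s⁻¹ = z' * b := by
    intro s hs
    rcases four_cases hUe hU4 hzU hbU hz1 hb1 (Ne.symm hbz)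
      ((Subgroup.mem_normalizer_iff.mp (hSU hs) b).mp hbU) with h | h | h | h
    · exact absurd (by simpa using h) hb1
    · exact absurd (mul_left_cancel (mul_right_cancel (h.trans (by rw [hzc s hs, mul_inv_cancel_right] :
        z' = s * z' * s⁻¹)))) hbz
    · exact Or.inl h
    · exact Or.inr h
  have hfix : ∀ u ∈ (S : Subgroup G), orderOf u = 2 → u * b = b * u → HasBig (S : Subgroup G) u := by
    intro u hu hu2 hub
    by_cases huU : u ∈ U
    · exact ⟨A₁, hA₁, hUA₁ huU⟩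
    refine hasBig_of_three hzS hu (hUS hbU) hz hu2 hb2 (hzc u hu).symm (fun e => huU (e ▸ hzU))
      (hzc b (hUS hbU)).symm hub ?_
    rintro (h | h | h | h)
    · exact hb1 h
    · exact hbz h
    · exact huU (h ▸ hbU)
    · refine huU ?_
      have := mul_mem hzU hbU
      rwa [h, ← mul_assoc, hzz, one_mul] at this
  by_contra hnb
  have htb : t * b * t⁻¹ = z' * b := (hbn t htR.1).resolve_left fun h =>
    hnb (hfix t htR.1 ht (mul_inv_eq_iff_eq_mul.mp h))
  obtain ⟨g, -, hgR, hgb⟩ := exists_conj_mem_inter S (centralizer ({b} : Set G)) (by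
    intro x hx y hy hxb hyb
    have hx' : x * b * x⁻¹ = z' * b := (hbn x hx.1).resolve_left fun h =>
      hxb (mem_cent.mpr (mul_inv_eq_iff_eq_mul.mp h))
    have hy' : y * b * y⁻¹ = z' * b := (hbn y hy.1).resolve_left fun h =>
      hyb (mem_cent.mpr (mul_inv_eq_iff_eq_mul.mp h))
    refine mem_cent.mpr (mul_inv_eq_iff_eq_mul.mp ?_)
    rw [show x * y * b * (x * y)⁻¹ = x * (y * b * y⁻¹) * x⁻¹ by group, hy', ← mul_assoc, hzc x hx.1,
      show z' * x * b * x⁻¹ = z' * (x * b * x⁻¹) by group, hx', ← mul_assoc, hzz, one_mul]) t htR.2 ht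
  obtain ⟨A, hA, htA⟩ := hfix _ hgR.1 (by rw [Involutions.Basic.orderOf_conj, ht]) (mem_cent.mp hgb)
  have hnot : ¬ MaxTwo (centralizer ({t} : Set G)) ((S : Subgroup G) ⊓ centralizer ({t} : Set G)) := by
    intro hmax
    obtain ⟨k, hk, hkT⟩ := hmax.conj_into (S.2.to_le inf_le_left) inf_le_right
      (hA.isPGroup.map (MulAut.conj g⁻¹).toMonoidHom) (by
        rintro _ ⟨a, ha, rfl⟩
        refine mem_cent.mpr ?_
        have h := Hyperplane.mem_comm hA.2.1 ha htA
        show g⁻¹ * a * g⁻¹⁻¹ * t = t * (g⁻¹ * a * g⁻¹⁻¹)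
        calc g⁻¹ * a * g⁻¹⁻¹ * t = g⁻¹ * (a * (g * t * g⁻¹)) * g := by group
          _ = g⁻¹ * ((g * t * g⁻¹) * a) * g := by rw [h]
          _ = t * (g⁻¹ * a * g⁻¹⁻¹) := by group)
    refine hnb ⟨A.map (MulAut.conj (k * g⁻¹)).toMonoidHom, hA.map fun a ha => ?_, g * t * g⁻¹, htA, ?_⟩
    · have := (hkT _ ⟨a, ha, rfl⟩).1
      rwa [show k * (MulAut.conj g⁻¹).toMonoidHom a * k⁻¹ = k * g⁻¹ * a * (k * g⁻¹)⁻¹ by
        simp [mul_assoc]] at this
    · show k * g⁻¹ * (g * t * g⁻¹) * (k * g⁻¹)⁻¹ = t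
      rw [show k * g⁻¹ * (g * t * g⁻¹) * (k * g⁻¹)⁻¹ = k * t * k⁻¹ by group, mem_cent.mp hk,
        mul_inv_cancel_right]
  obtain ⟨a, -, hidx, hinv⟩ := small S hzS hz hzc huniq (cent_le_normalizer S hZ huniq) (hUS hbU)
    (sq_one_order hb2 hb1) hbz hbn htR.1 ht htb hnb hnot
  have hA2 : ∀ x ∈ A₀, x ∈ zpowers a → x = 1 ∨ x = z' := fun x hx hxa =>
    or_iff_not_imp_left.mpr (hinv x hxa (by rw [← pow_two]; exact hA₀.2.1.2 x hx))
  obtain ⟨x₀, hx₀, hx₀a⟩ : ∃ x ∈ A₀, x ∉ zpowers a := by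
    by_contra h
    push Not at h
    have hsub : (A₀ : Set G) ⊆ {1, z'} := fun x hx => by simpa using hA2 x hx (h x hx)
    have h1 := (Set.ncard_le_ncard hsub (Set.toFinite _)).trans (Set.ncard_insert_le _ _)
    rw [Set.ncard_singleton, ← Nat.card_coe_set_eq] at h1
    have : 8 ≤ 2 := hA₀.2.2.trans h1
    omega
  have hsub : (A₀ : Set G) ⊆ {1, z', x₀⁻¹, x₀⁻¹ * z'} := by
    intro y hy
    by_cases hya : y ∈ zpowers a
    · rcases hA2 y hy hya with h | h <;> simp [h]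
    · rcases hA2 _ (mul_mem hx₀ hy) (hidx x₀ (hA₀.1 hx₀) y (hA₀.1 hy) hx₀a hya) with h | h
      · simp [eq_inv_of_mul_eq_one_right h]
      · simp [show y = x₀⁻¹ * z' by rw [← h, inv_mul_cancel_left]]
  have h1 := (Set.ncard_le_ncard hsub (Set.toFinite _)).trans
    ((Set.ncard_insert_le _ _).trans (Nat.add_le_add_right ((Set.ncard_insert_le _ _).trans
      (Nat.add_le_add_right (Set.ncard_insert_le _ _) 1)) 1))
  rw [Set.ncard_singleton, ← Nat.card_coe_set_eq] at h1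
  have : 8 ≤ 4 := hA₀.2.2.trans h1
  omega

end Cfsg.Agent.GenA.ZC
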