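import Cfsg.Agent.GenA.ZC.Small
import Cfsg.Agent.Lib.Components.FourActionStructure

/-!
The case in which a Sylow 2-subgroup has no elementary abelian subgroup of order eight and a unique
central involution.
-/

set_option autoImplicit false
set_option linter.style.haveILetI false
set_option linter.unusedSectionVars false

namespace Cfsg.Agent.GenA.ZC

open Subgroup
open Cfsg.Agent.Components

variable {G : Type*} [Group G] [Finite G]

local instance : Fact (Nat.Prime 2) := ⟨Nat.prime_two⟩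

/-- If the central involution `z` is not weakly closed in `S ∩ O^2(G)`, it is conjugate to every
involution of `S ∩ O^2(G)`. -/
theorem conj_of_not_closed (S : Sylow 2 G)
    (hno : ∀ A, ¬ Big (S : Subgroup G) A) {z : G}
    (hzR : z ∈ (S : Subgroup G) ⊓ Cfsg.pResidual 2 G) (hz : orderOf z = 2)
    (hzc : ∀ s ∈ (S : Subgroup G), s * z = z * s)
    (huniq : ∀ x ∈ (S : Subgroup G), (∀ s ∈ (S : Subgroup G), s * x = x * s) → x * x = 1 → x ≠ 1 → x = z)
    (hcN : centralizer ({z} : Set G) ≤ normalizer ((S : Subgroup G) : Set G))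
    {g : G} (hgR : g * z * g⁻¹ ∈ (S : Subgroup G) ⊓ Cfsg.pResidual 2 G) (hgne : g * z * g⁻¹ ≠ z)
    {t : G} (htR : t ∈ (S : Subgroup G) ⊓ Cfsg.pResidual 2 G) (ht : orderOf t = 2) :
    ∃ x : G, x * z * x⁻¹ = t := by
  classical
  set R := (S : Subgroup G) ⊓ Cfsg.pResidual 2 G with hR
  set u := g * z * g⁻¹ with hu
  have hHn : (Cfsg.pResidual 2 G).Normal := Transfer.NormalPComplement.pResidual_normal
  have hu2 : orderOf u = 2 := by rw [hu, Involutions.Basic.orderOf_conj, hz]
  have hz1 := Involutions.Basic.ne_one hz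
  have hzz := Involutions.Basic.inv_sq_one hz
  -- conclusion from a subgroup of index two with unique involution `z`
  have hcyc : ∀ a : G, (∀ x ∈ R, ∀ y ∈ R, x ∉ zpowers a → y ∉ zpowers a → x * y ∈ zpowers a) →
      (∀ x ∈ zpowers a, x * x = 1 → x ≠ 1 → x = z) → ∃ x : G, x * z * x⁻¹ = t := by
    intro a hidx hinv
    obtain ⟨h, -, -, hta⟩ := exists_conj_mem_inter S (zpowers a) hidx t htR.2 ht
    have he := hinv _ hta (Involutions.Basic.inv_sq_one (by rw [Involutions.Basic.orderOf_conj, ht]))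
      (Involutions.Basic.ne_one (by rw [Involutions.Basic.orderOf_conj, ht]))
    exact ⟨h⁻¹, by rw [← he]; group⟩
  let R' : Subgroup (S : Subgroup G) := R.subgroupOf (S : Subgroup G)
  haveI : R'.Normal := ⟨fun n hn s => mem_subgroupOf.mpr
    ⟨(s * n * s⁻¹).2, hHn.conj_mem _ (mem_subgroupOf.mp hn).2 (s : G)⟩⟩
  by_cases hfour : ∃ a b : (S : Subgroup G), a ∈ R' ∧ b ∈ R' ∧ a ≠ 1 ∧ b ≠ 1 ∧ a ≠ b ∧ a * a = 1 ∧
      b * b = 1 ∧ (∀ k, k * a = a * k) ∧ ∀ k, k * b * k⁻¹ = b ∨ k * b * k⁻¹ = a * b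
  · obtain ⟨⟨a, haS⟩, ⟨b, hbS⟩, -, -, ha1, hb1, hab, haa, hbb, hac, hbn⟩ := hfour
    simp only [ne_eq, Subtype.ext_iff, Subgroup.coe_mul, Subgroup.coe_one, InvMemClass.coe_inv,
      Subtype.forall] at ha1 hb1 hab haa hbb hac hbn
    obtain rfl : a = z := huniq a haS hac haa ha1
    have hbn' : ∀ s ∈ (S : Subgroup G), s * b * s⁻¹ = b ∨ s * b * s⁻¹ = a * b := hbn
    have hinU : ∀ y ∈ (S : Subgroup G), orderOf y = 2 → y * b = b * y → y = a ∨ y = b ∨ y = a * b := by
      intro y hy hy2 hyb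
      by_contra h
      push Not at h
      obtain ⟨A, hA, -⟩ := hasBig_of_three hzR.1 hbS hy hz (sq_one_order hbb hb1)
        (Involutions.Basic.inv_sq_one hy2) (hzc b hbS).symm hab (hzc y hy).symm hyb.symm
        (by rintro (h' | h' | h' | h')
            exacts [Involutions.Basic.ne_one hy2 h', h.1 h', h.2.1 h', h.2.2 h'])
      exact hno A hA
    by_cases hub : u * b = b * u
    · obtain ⟨s, hs, hsb⟩ : ∃ s ∈ (S : Subgroup G), s * b * s⁻¹ = a * b := by
        by_contra h
        push Not at h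
        refine hab (huniq b hbS (fun s hs => mul_inv_eq_iff_eq_mul.mp
          ((hbn' s hs).resolve_right (h s hs))) hbb hb1).symm
      have hb' : ∃ x : G, x * a * x⁻¹ = b ∧ ∃ x' : G, x' * a * x'⁻¹ = a * b := by
        rcases hinU u hgR.1 hu2 hub with h | h | h
        · exact absurd h hgne
        · refine ⟨g, h, s * g, ?_⟩
          rw [show s * g * a * (s * g)⁻¹ = s * (g * a * g⁻¹) * s⁻¹ by group, ← hu, h, hsb]
        · refine ⟨s * g, ?_, g, h⟩
          rw [show s * g * a * (s * g)⁻¹ = s * (g * a * g⁻¹) * s⁻¹ by group, ← hu, h, ← mul_assoc, hzc s hs,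
            show a * s * b * s⁻¹ = a * (s * b * s⁻¹) by group, hsb, ← mul_assoc, hzz, one_mul]
      obtain ⟨x₁, hx₁, x₂, hx₂⟩ := hb'
      obtain ⟨h, -, hR', hK⟩ := exists_conj_mem_inter S (centralizer ({b} : Set G)) (by
        intro x hx y hy hxb hyb
        have hx' : x * b * x⁻¹ = a * b := (hbn' x hx.1).resolve_left fun h =>
          hxb (mem_cent.mpr (mul_inv_eq_iff_eq_mul.mp h))
        have hy' : y * b * y⁻¹ = a * b := (hbn' y hy.1).resolve_left fun h =>
          hyb (mem_cent.mpr (mul_inv_eq_iff_eq_mul.mp h))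
        refine mem_cent.mpr (mul_inv_eq_iff_eq_mul.mp ?_)
        rw [show x * y * b * (x * y)⁻¹ = x * (y * b * y⁻¹) * x⁻¹ by group, hy', ← mul_assoc, hzc x hx.1,
          show a * x * b * x⁻¹ = a * (x * b * x⁻¹) by group, hx', ← mul_assoc, hzz, one_mul]) t htR.2 ht
      obtain ⟨x, hx⟩ : ∃ x : G, x * a * x⁻¹ = h * t * h⁻¹ := by
        rcases hinU _ hR'.1 (by rw [Involutions.Basic.orderOf_conj, ht]) (mem_cent.mp hK) with e | e | e
        · exact ⟨1, by rw [e, one_mul, inv_one, mul_one]⟩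
        · exact ⟨x₁, hx₁.trans e.symm⟩
        · exact ⟨x₂, hx₂.trans e.symm⟩
      refine ⟨h⁻¹ * x, ?_⟩
      rw [show h⁻¹ * x * a * (h⁻¹ * x)⁻¹ = h⁻¹ * (x * a * x⁻¹) * h by group, hx]
      group
    · have hutb : u * b * u⁻¹ = a * b := (hbn' u hgR.1).resolve_left fun h =>
        hub (mul_inv_eq_iff_eq_mul.mp h)
      have hnot : ¬ MaxTwo (centralizer ({u} : Set G)) ((S : Subgroup G) ⊓ centralizer ({u} : Set G)) := by
        intro hmax
        set T0 := (S : Subgroup G) ⊓ centralizer ({u} : Set G)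
        obtain ⟨k, -, hkT⟩ := hmax.conj_into (S.2.to_le inf_le_left) inf_le_right
          (S.2.map (MulAut.conj g).toMonoidHom) (by
            rintro _ ⟨s, hs, rfl⟩
            refine mem_cent.mpr ?_
            show g * s * g⁻¹ * u = u * (g * s * g⁻¹)
            rw [hu, show g * s * g⁻¹ * (g * a * g⁻¹) = g * (s * a) * g⁻¹ by group, hzc s hs]
            group)
        have hbT : b ∉ T0 := fun h => hub (mem_cent.mp h.2).symm
        have h1 : Nat.card (S : Subgroup G) ≤ Nat.card T0 := by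
          have h := card_le_of_le (H := ((S : Subgroup G).map (MulAut.conj g).toMonoidHom).map
            (MulAut.conj k).toMonoidHom) (K := T0) (by rintro _ ⟨y, hy, rfl⟩; exact hkT y hy)
          rwa [card_map_of_injective (MulAut.conj k).injective,
            card_map_of_injective (MulAut.conj g).injective] at h
        exact hbT ((eq_of_le_of_card_ge inf_le_left h1).ge hbS)
      obtain ⟨c, -, hidx, hinv⟩ := small S hzR.1 hz hzc huniq hcN hbS (sq_one_order hbb hb1) (Ne.symm hab)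
        hbn' hgR.1 hu2 hutb (fun ⟨A, hA, _⟩ => hno A hA) hnot
      exact hcyc c (fun x hx y hy => hidx x hx.1 y hy.1) hinv
  · rcases FourAction.structure_of_no_four S.2 R' (fun a b ha hb ha1 hb1 hab haa hbb _ hac hbn =>
      hfour ⟨a, b, ha, hb, ha1, hb1, hab, haa, hbb, hac, hbn⟩) with h | ⟨r, s, n, ε, hm⟩
    · exact absurd (congrArg Subtype.val (h ⟨u, hgR.1⟩ (mem_subgroupOf.mpr hgR) ⟨z, hzR.1⟩
        (mem_subgroupOf.mpr hzR) (Subtype.ext (Involutions.Basic.inv_sq_one hu2)) (Subtype.ext hzz)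
        (fun e => Involutions.Basic.ne_one hu2 (congrArg Subtype.val e))
        (fun e => hz1 (congrArg Subtype.val e)))) hgne
    · have hn : (zpowers r).Normal := ⟨fun x ⟨i, hi⟩ k => by
        obtain ⟨j, hj⟩ := hm.norm k
        exact ⟨j * i, by rw [← hi]; exact (FourAction.conj_zpow_eq hj i).symm⟩⟩
      have hzr : ∃ x ∈ zpowers r, x * x = 1 ∧ x ≠ 1 := by
        refine ⟨r ^ 2 ^ (n - 1), pow_mem (mem_zpowers r) _, ?_, ?_⟩
        · rw [← pow_add, ← mul_two, ← pow_succ, show n - 1 + 1 = n by have := hm.two_le; omega, ← hm.order,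
            pow_orderOf_eq_one]
        · intro h
          have h1 := Nat.le_of_dvd (by positivity) (orderOf_dvd_of_pow_eq_one h)
          rw [hm.order] at h1
          exact absurd h1 (Nat.not_le.mpr (Nat.pow_lt_pow_right (by norm_num) (by have := hm.two_le; omega)))
      obtain ⟨w, hw, hw2, hw1⟩ := hzr
      have hmap : ∀ x : (S : Subgroup G), (x : G) ∈ zpowers (r : G) ↔ x ∈ zpowers r := fun x => by
        simp only [mem_zpowers_iff, Subtype.ext_iff, SubgroupClass.coe_zpow]
      have hwz : (w : G) = z := by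
        refine huniq _ w.2 (fun k hk => mul_inv_eq_iff_eq_mul.mp ?_) (congrArg Subtype.val hw2)
          (fun e => hw1 (Subtype.ext e))
        refine zpowers_involution_unique ((hmap (⟨k, hk⟩ * w * ⟨k, hk⟩⁻¹)).mpr (hn.conj_mem w hw _))
          ((hmap w).mpr hw) ?_ (congrArg Subtype.val hw2) ?_ (fun e => hw1 (Subtype.ext e))
        · rw [show k * (w : G) * k⁻¹ * (k * w * k⁻¹) = k * ((w : G) * w) * k⁻¹ by group,
            show (w : G) * w = 1 from congrArg Subtype.val hw2, mul_one, mul_inv_cancel]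
        · exact fun e => hw1 (Subtype.ext (by simpa using e))
      refine hcyc (r : G) (fun x hx y hy hxr hyr => ?_) fun x hxr hx2 hx1 => ?_
      · have h1 := (hm.index ⟨x, hx.1⟩ (mem_subgroupOf.mpr hx)).resolve_left fun h => hxr ((hmap _).mpr h)
        have h2 := (hm.index ⟨y, hy.1⟩ (mem_subgroupOf.mpr hy)).resolve_left fun h => hyr ((hmap _).mpr h)
        have h3 := hn.conj_mem _ h2 s
        refine (hmap (⟨x, hx.1⟩ * ⟨y, hy.1⟩)).mpr ?_
        have := mul_mem h1 h3
        rwa [show (⟨x, hx.1⟩ : (S : Subgroup G)) * s * (s * (⟨y, hy.1⟩ * s) * s⁻¹) =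
          ⟨x, hx.1⟩ * (s * s) * ⟨y, hy.1⟩ by group, hm.s_sq, mul_one] at this
      · rw [← hwz]
        exact zpowers_involution_unique hxr ((hmap w).mpr hw) hx2 (congrArg Subtype.val hw2) hx1
          (fun e => hw1 (Subtype.ext e))

/-- A conjugate in `S` of the central involution has the same `O(C(·))`. -/
theorem theta_eq (hC : ∀ t : G, orderOf t = 2 → Group.IsSolvable ↥(centralizer ({t} : Set G)))
    (S : Sylow 2 G) {z : G} (hzS : z ∈ (S : Subgroup G)) (hz : orderOf z = 2)
    (hzc : ∀ s ∈ (S : Subgroup G), s * z = z * s)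
    (hcN : centralizer ({z} : Set G) ≤ normalizer ((S : Subgroup G) : Set G))
    {g : G} (hu : g * z * g⁻¹ ∈ (S : Subgroup G)) : θ (g * z * g⁻¹) = θ z := by
  set u := g * z * g⁻¹ with hu'
  set D := θ z with hD
  have hDC : D ≤ centralizer ({z} : Set G) := Balance.centralizerPPrimeCore_le_centralizer 2 z
  have hDcop : (Nat.card D).Coprime 2 := Balance.centralizerPPrimeCore_coprime 2 z
  have hSC : (S : Subgroup G) ≤ centralizer ({z} : Set G) := fun s hs => mem_cent.mpr (hzc s hs)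
  have hDS : ∀ d ∈ D, ∀ s ∈ (S : Subgroup G), d * s = s * d := by
    intro d hd s hs
    have h1 : d * s * d⁻¹ * s⁻¹ ∈ (S : Subgroup G) :=
      mul_mem ((Subgroup.mem_normalizer_iff.mp (hcN (hDC hd)) s).mp hs) (inv_mem hs)
    have h2 : d * s * d⁻¹ * s⁻¹ ∈ D := by
      rw [show d * s * d⁻¹ * s⁻¹ = d * (s * d⁻¹ * s⁻¹) by group]
      exact mul_mem hd ((Subgroup.mem_normalizer_iff.mp
        (Balance.le_normalizer_centralizerPPrimeCore 2 z (hSC hs)) _).mp (inv_mem hd))
    obtain ⟨k, hk⟩ := IsPGroup.iff_card.mp S.2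
    have hd' := (disjoint_of_coprime_natCard (H := D) (K := (S : Subgroup G))
      (by rw [hk]; exact hDcop.pow_right k)).le_bot ⟨h2, h1⟩
    rw [mem_bot, mul_inv_eq_one, mul_inv_eq_iff_eq_mul] at hd'
    exact hd'
  set P := (S : Subgroup G).map (MulAut.conj g).toMonoidHom with hP
  have hPp : IsPGroup 2 P := S.2.map _
  have hmemP : ∀ {y}, y ∈ P → g⁻¹ * y * g ∈ (S : Subgroup G) := by
    rintro _ ⟨s, hs, rfl⟩
    rwa [show g⁻¹ * (MulAut.conj g).toMonoidHom s * g = s by simp [mul_assoc]]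
  have hPC : P ≤ centralizer ({u} : Set G) := by
    rintro _ ⟨s, hs, rfl⟩
    refine mem_cent.mpr ?_
    show g * s * g⁻¹ * u = u * (g * s * g⁻¹)
    rw [hu', show g * s * g⁻¹ * (g * z * g⁻¹) = g * (s * z) * g⁻¹ by group, hzc s hs]
    group
  have hCP : centralizer ({u} : Set G) ≤ normalizer (P : Set G) := fun c hc => by
    have hc' : g⁻¹ * c * g ∈ centralizer ({z} : Set G) := by
      rw [mem_cent]
      calc g⁻¹ * c * g * z = g⁻¹ * (c * u) * g := by rw [hu']; group
        _ = g⁻¹ * (u * c) * g := by rw [mem_cent.mp hc]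
        _ = z * (g⁻¹ * c * g) := by rw [hu']; group
    refine mem_normalizer_of_forall ?_
    rintro _ ⟨s, hs, rfl⟩
    refine ⟨g⁻¹ * c * g * s * (g⁻¹ * c * g)⁻¹, (Subgroup.mem_normalizer_iff.mp (hcN hc') s).mp hs, ?_⟩
    show g * (g⁻¹ * c * g * s * (g⁻¹ * c * g)⁻¹) * g⁻¹ = c * (g * s * g⁻¹) * c⁻¹
    group
  have hDu : D ≤ centralizer ({u} : Set G) := fun d hd => mem_cent.mpr (hDS d hd u hu)
  set T0 := (S : Subgroup G) ⊓ centralizer ({u} : Set G)
  have hzT0 : z ∈ T0 := ⟨hzS, mem_cent.mpr (hzc u hu).symm⟩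
  have hDP : D ≤ centralizer (P : Set G) := by
    refine Coprime.le_centralizer_of_pxq (P := T0) (S.2.to_le inf_le_left) hDcop hPp
      (fun s hs => mem_centralizer_iff.mpr fun d hd => hDS d hd s hs.1)
      (inf_le_right.trans hCP) (hDu.trans hCP) ?_
    rintro y ⟨hyP, hyT⟩
    have hyz : y ∈ centralizer ({z} : Set G) := mem_cent.mpr (mem_centralizer_iff.mp hyT z hzT0).symm
    have hyS : y ∈ (S : Subgroup G) := le_sylow_of_le_normalizer S (hPp.to_le (zpowers_le.mpr hyP))
      (zpowers_le.mpr (hcN hyz)) (mem_zpowers y)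
    exact mem_centralizer_iff.mpr fun d hd => hDS d hd y hyS
  have hzP : z ∈ P := by
    have hz' : g⁻¹ * z * g ∈ centralizer ({z} : Set G) := by
      rw [mem_cent]
      calc g⁻¹ * z * g * z = g⁻¹ * (z * u) * g := by rw [hu']; group
        _ = g⁻¹ * (u * z) * g := by rw [hzc u hu]
        _ = z * (g⁻¹ * z * g) := by rw [hu']; group
    have ho : orderOf (g⁻¹ * z * g) = 2 := by
      have := Involutions.Basic.orderOf_conj g⁻¹ z
      rwa [inv_inv, hz] at this
    refine ⟨g⁻¹ * z * g, le_sylow_of_le_normalizer S (isPGroup_zpowers ho) (zpowers_le.mpr (hcN hz'))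
      (mem_zpowers _), ?_⟩
    show g * (g⁻¹ * z * g) * g⁻¹ = z
    group
  have huo : orderOf u = 2 := by rw [hu', Involutions.Basic.orderOf_conj, hz]
  haveI := hC u huo
  set C := centralizer ({u} : Set G)
  have h1 : D.subgroupOf C ≤ Cfsg.pPrimeCore 2 C := by
    refine Balance.le_pPrimeCore_of_normalized Balance.pLayer_eq_bot_of_isSolvable
      (hPp.comap_subtype (K := C)) ?_ ?_ ?_
    · intro d hd
      exact mem_centralizer_iff.mpr fun y hy => Subtype.ext
        (mem_centralizer_iff.mp (hDP (mem_subgroupOf.mp hd)) y (mem_subgroupOf.mp hy))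
    · intro c hc
      refine le_normalizer_comap C.subtype (Balance.le_normalizer_centralizerPPrimeCore 2 z (mem_cent.mpr ?_))
      exact (congrArg Subtype.val (mem_centralizer_iff.mp hc ⟨z, hPC hzP⟩ (mem_subgroupOf.mpr hzP))).symm
    · rw [Nat.card_congr (subgroupOfEquivOfLe hDu).toEquiv]; exact hDcop
  have hle : D ≤ θ u := by
    have := Subgroup.map_mono (f := C.subtype) h1
    rwa [map_subgroupOf_eq_of_le hDu] at this
  refine (eq_of_le_of_card_ge hle ?_).symm
  show Nat.card (θ (g * z * g⁻¹)) ≤ Nat.card (θ z)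
  rw [show θ (g * z * g⁻¹) = (θ z).map (MulAut.conj g).toMonoidHom from
    SolvableSignalizer.centralizerPPrimeCore_conj 2 z g]
  exact (card_map_of_injective (f := (MulAut.conj g).toMonoidHom) (MulAut.conj g).injective).le

end Cfsg.Agent.GenA.ZC
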