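import Cfsg.Agent.GenA.ZC.Basic
import Cfsg.Agent.Lib.CentFour.TwoGroup

/-!
A noncentral involution whose centraliser in `S` is small and not Sylow in its centraliser.
-/

set_option autoImplicit false
set_option linter.style.haveILetI false
set_option linter.unusedSectionVars false

namespace Cfsg.Agent.GenA.ZC

open Subgroup

variable {G : Type*} [Group G] [Finite G]

local instance : Fact (Nat.Prime 2) := ⟨Nat.prime_two⟩

lemma zpowers_involution_unique {a x y : G} (hx : x ∈ zpowers a) (hy : y ∈ zpowers a)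
    (hx2 : x * x = 1) (hy2 : y * y = 1) (hx1 : x ≠ 1) (hy1 : y ≠ 1) : x = y := by
  by_contra hne
  obtain ⟨V, hV, hV4, -, -, -, hVle⟩ := pair x y (sq_one_order hx2 hx1) (sq_one_order hy2 hy1)
    (by obtain ⟨i, rfl⟩ := hx; obtain ⟨j, rfl⟩ := hy; exact (Commute.zpow_zpow_self a i j).eq) hne
  have hle := hVle _ hx hy
  haveI : IsCyclic V := isCyclic_of_injective (Subgroup.inclusion hle) (Subgroup.inclusion_injective hle)
  exact Components.Hyperplane.not_isCyclic hV (by rw [hV4]; norm_num) inferInstance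

theorem small (S : Sylow 2 G) {z : G} (hzS : z ∈ (S : Subgroup G)) (hz : orderOf z = 2)
    (hzc : ∀ s ∈ (S : Subgroup G), s * z = z * s)
    (huniq : ∀ x ∈ (S : Subgroup G), (∀ s ∈ (S : Subgroup G), s * x = x * s) → x * x = 1 → x ≠ 1 → x = z)
    (hcN : centralizer ({z} : Set G) ≤ normalizer ((S : Subgroup G) : Set G))
    {b : G} (hbS : b ∈ (S : Subgroup G)) (hb : orderOf b = 2) (hbz : b ≠ z)
    (hbn : ∀ s ∈ (S : Subgroup G), s * b * s⁻¹ = b ∨ s * b * s⁻¹ = z * b)
    {t : G} (htS : t ∈ (S : Subgroup G)) (ht : orderOf t = 2) (htb : t * b * t⁻¹ = z * b)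
    (hnb : ¬ HasBig (S : Subgroup G) t)
    (hnot : ¬ MaxTwo (centralizer ({t} : Set G)) ((S : Subgroup G) ⊓ centralizer ({t} : Set G))) :
    ∃ a ∈ (S : Subgroup G),
      (∀ x ∈ (S : Subgroup G), ∀ y ∈ (S : Subgroup G), x ∉ zpowers a → y ∉ zpowers a → x * y ∈ zpowers a) ∧
      (∀ x ∈ zpowers a, x * x = 1 → x ≠ 1 → x = z) := by
  classical
  have hz1 := Involutions.Basic.ne_one hz
  have hb1 := Involutions.Basic.ne_one hb
  have ht1 := Involutions.Basic.ne_one ht
  have hzz := Involutions.Basic.inv_sq_one hz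
  have hbb := Involutions.Basic.inv_sq_one hb
  have htt := Involutions.Basic.inv_sq_one ht
  have hzb : z * b ≠ b := fun e => hz1 (mul_eq_right.mp e)
  have hzt : z ≠ t := by
    rintro rfl
    have h : z * b * z⁻¹ = b := by rw [← hzc b hbS, mul_inv_cancel_right]
    rw [htb] at h
    exact hz1 (mul_eq_right.mp h)
  set T0 := (S : Subgroup G) ⊓ centralizer ({t} : Set G) with hT0
  have hmem : ∀ {y}, y ∈ T0 ↔ y ∈ (S : Subgroup G) ∧ y * t = t * y := fun {y} => by
    rw [hT0, mem_inf, mem_cent]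
  have hinv : ∀ y ∈ T0, y * y = 1 → y = 1 ∨ y = z ∨ y = t ∨ y = z * t := by
    intro y hy hy2
    by_contra h
    exact hnb (hasBig_of_three hzS htS (hmem.mp hy).1 hz ht hy2 (hzc t htS).symm hzt
      (hzc y (hmem.mp hy).1).symm (hmem.mp hy).2.symm h)
  -- an element normalizing `T0` outside `S`
  simp only [MaxTwo, not_forall] at hnot
  obtain ⟨P, hP, hPC, hT0P, hPT⟩ := hnot
  haveI := hP.isNilpotent
  have hlt : T0.subgroupOf P < ⊤ := lt_top_iff_ne_top.mpr fun h => hPT (subgroupOf_eq_top.mp h)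
  obtain ⟨⟨n, hnP⟩, hn, hnT⟩ := SetLike.exists_of_lt (Group.normalizerCondition_of_isNilpotent _ hlt)
  replace hnT : n ∉ T0 := hnT
  have hnT0 : ∀ y ∈ T0, n * y * n⁻¹ ∈ T0 := fun y hy =>
    (Subgroup.mem_normalizer_iff.mp hn ⟨y, hT0P hy⟩).mp hy
  have hnt : n * t = t * n := mem_cent.mp (hPC hnP)
  have hnz : n * z * n⁻¹ ≠ z := by
    intro h
    have hc : n ∈ centralizer ({z} : Set G) := mem_cent.mpr (mul_inv_eq_iff_eq_mul.mp h)
    refine hnT (hmem.mpr ⟨?_, hnt⟩)
    exact le_sylow_of_le_normalizer S (hP.to_le (zpowers_le.mpr hnP)) (zpowers_le.mpr (hcN hc))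
      (mem_zpowers n)
  have hzT0 : z ∈ T0 := hmem.mpr ⟨hzS, (hzc t htS).symm⟩
  have htT0 : t ∈ T0 := hmem.mpr ⟨htS, rfl⟩
  have hconj : n * z * n⁻¹ = z * t := by
    have h2 : n * z * n⁻¹ * (n * z * n⁻¹) = 1 := by
      rw [show n * z * n⁻¹ * (n * z * n⁻¹) = n * (z * z) * n⁻¹ by group, hzz, mul_one, mul_inv_cancel]
    have ht' : n * t * n⁻¹ = t := by rw [hnt, mul_inv_cancel_right]
    rcases hinv _ (hnT0 z hzT0) h2 with h | h | h | h
    · exact absurd (by simpa using h) hz1
    · exact absurd h hnz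
    · exact absurd (mul_left_cancel (mul_right_cancel (h.trans ht'.symm))) hzt
    · exact h
  -- squares in `S` fix `b`
  have hsq : ∀ u ∈ (S : Subgroup G), u * u * b * (u * u)⁻¹ = b := by
    intro u hu
    rw [show u * u * b * (u * u)⁻¹ = u * (u * b * u⁻¹) * u⁻¹ by group]
    rcases hbn u hu with h | h
    · rw [h, h]
    · rw [h, ← mul_assoc, hzc u hu, show z * u * b * u⁻¹ = z * (u * b * u⁻¹) by group, h, ← mul_assoc,
        hzz, one_mul]
  have hztb : z * t * b * (z * t)⁻¹ = z * b := by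
    rw [show z * t * b * (z * t)⁻¹ = z * (t * b * t⁻¹) * z⁻¹ by group, htb,
      show z * (z * b) = z * z * b by group, hzz, one_mul, Involutions.Basic.inv_eq hz, hzc b hbS]
  have hnsq : ∀ w ∈ T0, w * w ≠ z := by
    intro w hw hwz
    have h := hsq _ (hmem.mp (hnT0 w hw)).1
    rw [show n * w * n⁻¹ * (n * w * n⁻¹) = n * (w * w) * n⁻¹ by group, hwz, hconj, hztb] at h
    exact hzb h
  have hone : ∀ y ∈ T0, y * b = b * y → y = 1 ∨ y = z := by
    intro y hy hyb
    have hord : ∀ w ∈ T0, w * b = b * w → w * w = 1 → w = 1 ∨ w = z := by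
      intro w hw hwb hw2
      rcases hinv w hw hw2 with h | h | h | h
      · exact Or.inl h
      · exact Or.inr h
      · rw [h] at hwb
        rw [hwb, mul_inv_cancel_right] at htb
        exact absurd htb.symm hzb
      · rw [h] at hwb
        rw [hwb, mul_inv_cancel_right] at hztb
        exact absurd hztb.symm hzb
    obtain ⟨k, hk⟩ := (S.2.to_le (zpowers_le.mpr (hmem.mp hy).1)) ⟨y, mem_zpowers y⟩
    have hk' : y ^ 2 ^ k = 1 := congrArg Subtype.val hk
    have hcb : ∀ m : ℕ, y ^ m * b = b * y ^ m := fun m => ((show Commute y b from hyb).pow_left m).eq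
    -- descend
    have hall : ∀ j : ℕ, j ≤ k → y ^ 2 ^ (k - j) = 1 ∨ y ^ 2 ^ (k - j) = z := by
      intro j
      induction j with
      | zero => intro _; exact Or.inl hk'
      | succ j ih =>
        intro hj
        have hy2 : y ^ 2 ^ (k - (j + 1)) * y ^ 2 ^ (k - (j + 1)) = y ^ 2 ^ (k - j) := by
          rw [← pow_add, show k - j = k - (j + 1) + 1 by omega, pow_succ, mul_two]
        rcases ih (by omega) with h | h
        · exact hord _ (pow_mem hy _) (hcb _) (hy2.trans h)
        · exact absurd (hy2.trans h) (hnsq _ (pow_mem hy _))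
    simpa using hall k le_rfl
  have hfour : ∀ y ∈ T0, y = 1 ∨ y = z ∨ y = t ∨ y = z * t := by
    intro y hy
    rcases hbn y (hmem.mp hy).1 with h | h
    · rcases hone y hy (mul_inv_eq_iff_eq_mul.mp h) with h' | h' <;> tauto
    · have hty : t * y * b * (t * y)⁻¹ = b := by
        rw [show t * y * b * (t * y)⁻¹ = t * (y * b * y⁻¹) * t⁻¹ by group, h, ← mul_assoc, hzc t htS,
          show z * t * b * t⁻¹ = z * (t * b * t⁻¹) by group, htb, ← mul_assoc, hzz, one_mul]
      rcases hone (t * y) (mul_mem htT0 hy) (mul_inv_eq_iff_eq_mul.mp hty) with h' | h'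
      · exact Or.inr (Or.inr (Or.inl (by rw [eq_inv_of_mul_eq_one_right h', Involutions.Basic.inv_eq ht])))
      · refine Or.inr (Or.inr (Or.inr ?_))
        calc y = t * t * y := by rw [htt, one_mul]
          _ = t * z := by rw [mul_assoc, h']
          _ = _ := hzc t htS
  -- the structure of `S`
  have hcard : Nat.card (centralizer ({(⟨t, htS⟩ : (S : Subgroup G))} : Set (S : Subgroup G))) ≤ 4 := by
    have h1 : (fun x : (S : Subgroup G) => (x : G)) ''
        (centralizer ({(⟨t, htS⟩ : (S : Subgroup G))} : Set (S : Subgroup G)) : Set (S : Subgroup G)) ⊆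
        ({1, z, t, z * t} : Set G) := by
      rintro _ ⟨x, hx, rfl⟩
      simpa using hfour x (hmem.mpr ⟨x.2, congrArg Subtype.val (mem_cent.mp hx)⟩)
    have h2 := Set.ncard_le_ncard h1 (Set.toFinite _)
    rw [Set.ncard_image_of_injective _ Subtype.val_injective, ← Nat.card_coe_set_eq] at h2
    refine h2.trans ((Set.ncard_insert_le _ _).trans ?_)
    have := Set.ncard_insert_le z ({t, z * t} : Set G)
    have := Set.ncard_insert_le t ({z * t} : Set G)
    rw [Set.ncard_singleton] at this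
    omega
  rcases CentFour.structure_of_small_centralizer S.2 ⟨t, htS⟩ hcard with h | ⟨m, ⟨a, haS⟩, -, ha, hScard, -, -⟩
  · exfalso
    have htne : t ≠ b := fun e => by
      rw [e, mul_inv_cancel_right] at htb; exact hzb htb.symm
    have htne' : t ≠ z * b := fun e => by
      have hc : t * b = b * t := by rw [e, mul_assoc, hbb, mul_one, ← mul_assoc, hzc b hbS, mul_assoc, hbb, mul_one]
      rw [hc, mul_inv_cancel_right] at htb
      exact hzb htb.symm
    have hzb1 : z * b ≠ 1 := fun e => hbz (mul_left_cancel (a := z) (e.trans hzz.symm))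
    have hzbz : z * b ≠ z := fun e => hb1 (mul_eq_left.mp e)
    have hsub : ({1, z, b, z * b, t} : Set G) ⊆ ((S : Subgroup G) : Set G) := by
      intro x hx
      rcases hx with rfl | rfl | rfl | rfl | rfl
      exacts [one_mem _, hzS, hbS, mul_mem hzS hbS, htS]
    have h5 := Set.ncard_le_ncard hsub (Set.toFinite _)
    rw [Set.ncard_insert_of_notMem (by simp [hz1.symm, hb1.symm, hzb1.symm, ht1.symm]),
      Set.ncard_insert_of_notMem (by simp [hbz.symm, hzbz.symm, hzt]),
      Set.ncard_insert_of_notMem (by simp [hzb.symm, htne.symm]),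
      Set.ncard_insert_of_notMem (by simp [htne'.symm]), Set.ncard_singleton, ← Nat.card_coe_set_eq] at h5
    have : 5 ≤ 4 := h5.trans h
    omega
  · have hidx : (zpowers (⟨a, haS⟩ : (S : Subgroup G))).index = 2 := by
      have h := (zpowers (⟨a, haS⟩ : (S : Subgroup G))).card_mul_index
      rw [Nat.card_zpowers, ha, hScard, pow_succ _ (m + 2)] at h
      exact mul_left_cancel₀ (by positivity) h
    have hin : ∀ x : (S : Subgroup G), x ∈ zpowers (⟨a, haS⟩ : (S : Subgroup G)) ↔ (x : G) ∈ zpowers a := by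
      intro x
      simp only [mem_zpowers_iff, Subtype.ext_iff, SubgroupClass.coe_zpow]
    refine ⟨a, haS, fun x hx y hy hxa hya => ?_, fun x hxa hx2 hx1 => ?_⟩
    · refine (hin ⟨x * y, mul_mem hx hy⟩).mp ((Subgroup.mul_mem_iff_of_index_two hidx
        (a := ⟨x, hx⟩) (b := ⟨y, hy⟩)).mpr (iff_of_false ?_ ?_))
      · rw [hin]; exact hxa
      · rw [hin]; exact hya
    · have hxS : x ∈ (S : Subgroup G) := zpowers_le.mpr haS hxa
      refine huniq x hxS (fun s hs => mul_inv_eq_iff_eq_mul.mp (zpowers_involution_unique ?_ hxa ?_ hx2 ?_ hx1)) hx2 hx1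
      · haveI := normal_of_index_eq_two hidx
        exact (hin _).mp (‹(zpowers (⟨a, haS⟩ : (S : Subgroup G))).Normal›.conj_mem ⟨x, hxS⟩
          ((hin _).mpr hxa) ⟨s, hs⟩)
      · rw [show s * x * s⁻¹ * (s * x * s⁻¹) = s * (x * x) * s⁻¹ by group, hx2, mul_one, mul_inv_cancel]
      · exact fun h => hx1 (by simpa using h)

end Cfsg.Agent.GenA.ZC
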